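import Mathlib

/-!
Algebra for finite étale algebras: products, quotients by idempotents, kernels of maps, and rank
arguments.
-/

universe u

open TensorProduct

namespace Groth.Agent.SchFinH13

variable {R A B : Type u} [CommRing R] [CommRing A] [CommRing B] [Algebra R A] [Algebra R B]

/-- A quotient by an idempotent is étale. -/
theorem etale_quotient_of_isIdempotentElem [Algebra.Etale R A] {e : A} (he : IsIdempotentElem e) :
    Algebra.Etale R (A ⧸ Ideal.span ({e} : Set A)) := by
  haveI : IsLocalization.Away (1 - e) (A ⧸ Ideal.span ({e} : Set A)) :=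
    IsLocalization.away_of_isIdempotentElem he.one_sub (by simp) Ideal.Quotient.mk_surjective
  haveI : Algebra.Etale A (A ⧸ Ideal.span ({e} : Set A)) := Algebra.Etale.of_isLocalizationAway (1 - e)
  exact Algebra.Etale.comp R A _

/-- The product of two étale algebras is étale. -/
theorem etale_prod [Algebra.Etale R A] [Algebra.Etale R B] : Algebra.Etale R (A × B) := by
  rw [← RingHom.etale_algebraMap]
  refine RingHom.Etale.ofLocalizationSpanTarget.ofIsLocalization RingHom.Etale.respectsIso _
    {((1 : A), (0 : B)), (0, 1)} ?_ fun r => ?_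
  · rw [Ideal.eq_top_iff_one]
    have : (1 : A × B) = ((1 : A), (0 : B)) + (0, 1) := by ext <;> simp
    rw [this]
    exact add_mem (Ideal.subset_span (by simp)) (Ideal.subset_span (by simp))
  · obtain ⟨r, hr⟩ := r
    rcases hr with rfl | hr
    · let _ := (RingHom.fst A B).toAlgebra
      haveI : IsLocalization.Away ((1 : A), (0 : B)) A :=
        IsLocalization.away_of_isIdempotentElem (show IsIdempotentElem _ from Prod.ext (one_mul _) (zero_mul _))
          (by
            ext ⟨a, b⟩
            simp only [RingHom.mem_ker, Ideal.mem_span_singleton', RingHom.algebraMap_toAlgebra, RingHom.coe_fst]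
            exact ⟨fun h => ⟨(0, b), by ext <;> simp [h]⟩, fun ⟨x, hx⟩ => (congrArg Prod.fst hx).symm.trans (by simp)⟩)
          Prod.fst_surjective
      exact ⟨A, inferInstance, inferInstance, inferInstance, RingHom.etale_algebraMap.mpr inferInstance⟩
    · obtain rfl : r = ((0 : A), (1 : B)) := hr
      let _ := (RingHom.snd A B).toAlgebra
      haveI : IsLocalization.Away ((0 : A), (1 : B)) B :=
        IsLocalization.away_of_isIdempotentElem (show IsIdempotentElem _ from Prod.ext (zero_mul _) (one_mul _))
          (by
            ext ⟨a, b⟩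
            simp only [RingHom.mem_ker, Ideal.mem_span_singleton', RingHom.algebraMap_toAlgebra, RingHom.coe_snd]
            exact ⟨fun h => ⟨(a, 0), by ext <;> simp [h]⟩, fun ⟨x, hx⟩ => (congrArg Prod.snd hx).symm.trans (by simp)⟩)
          Prod.snd_surjective
      exact ⟨B, inferInstance, inferInstance, inferInstance, RingHom.etale_algebraMap.mpr inferInstance⟩

/-- The kernel of a map of finite étale algebras is generated by an idempotent. -/
theorem exists_ker_eq_span_idempotent [Algebra.Etale R A] [Algebra.Etale R B] [Module.Finite R B]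
    (f : A →ₐ[R] B) :
    ∃ e : A, IsIdempotentElem e ∧ RingHom.ker f.toRingHom = Ideal.span {e} := by
  let _ := f.toRingHom.toAlgebra
  haveI : IsScalarTower R A B := IsScalarTower.of_algebraMap_eq fun r => (f.commutes r).symm
  haveI : Algebra.Etale A B := Algebra.Etale.of_restrictScalars R A B
  haveI : Module.Finite A B := Module.Finite.of_restrictScalars_finite R A B
  have hopen : IsOpen (Set.range (PrimeSpectrum.comap (algebraMap A B))) :=
    (PrimeSpectrum.isOpenMap_comap_of_hasGoingDown_of_finitePresentation (R := A) (S := B)).isOpen_range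
  have hclosed : IsClosed (Set.range (PrimeSpectrum.comap (algebraMap A B))) :=
    (PrimeSpectrum.isClosedMap_comap_of_isIntegral _ (algebraMap_isIntegral_iff.mpr inferInstance)).isClosed_range
  obtain ⟨e, he, hrange⟩ := PrimeSpectrum.isClopen_iff.mp ⟨hclosed, hopen⟩
  have hfe : f e = 1 := by
    have hidem : IsIdempotentElem (f e) := he.map f
    have hnil : IsNilpotent (1 - f e) := by
      rw [← PrimeSpectrum.basicOpen_eq_bot_iff]
      ext P
      simp only [SetLike.mem_coe, PrimeSpectrum.mem_basicOpen, TopologicalSpace.Opens.coe_bot, Set.mem_empty_iff_false,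
        iff_false, not_not]
      have hP : PrimeSpectrum.comap (algebraMap A B) P ∈ (PrimeSpectrum.basicOpen e : Set (PrimeSpectrum A)) :=
        hrange ▸ Set.mem_range_self P
      have h0 : (1 - f e) * f e = 0 := by rw [sub_mul, one_mul, hidem.eq, sub_self]
      exact (P.isPrime.mem_or_mem (h0 ▸ zero_mem P.asIdeal)).resolve_right hP
    exact (sub_eq_zero.mp (hidem.one_sub.eq_zero_of_isNilpotent hnil)).symm
  refine ⟨1 - e, he.one_sub, le_antisymm ?_ ?_⟩
  swap
  · rw [Ideal.span_le, Set.singleton_subset_iff, SetLike.mem_coe, RingHom.mem_ker]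
    change f (1 - e) = 0
    rw [map_sub, map_one, hfe, sub_self]
  intro a ha
  let A₁ := A ⧸ Ideal.span ({1 - e} : Set A)
  let _ : Algebra A₁ B := (Ideal.Quotient.lift (Ideal.span ({1 - e} : Set A)) f.toRingHom fun x hx => by
    obtain ⟨c, rfl⟩ := Ideal.mem_span_singleton'.mp hx
    change f (c * (1 - e)) = 0
    rw [map_mul, map_sub, map_one, hfe, sub_self, mul_zero]).toAlgebra
  haveI : IsScalarTower A A₁ B := IsScalarTower.of_algebraMap_eq fun _ => rfl
  haveI : IsLocalization.Away e A₁ :=
    IsLocalization.away_of_isIdempotentElem he (by simp [A₁]) Ideal.Quotient.mk_surjective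
  haveI : Module.Flat A₁ B := (Module.flat_iff_of_isLocalization A₁ (Submonoid.powers e) B).mpr inferInstance
  haveI : Module.FaithfullyFlat A₁ B := Module.FaithfullyFlat.of_comap_surjective fun P => by
    have hPe : PrimeSpectrum.comap (algebraMap A A₁) P ∈ (PrimeSpectrum.basicOpen e : Set (PrimeSpectrum A)) := by
      rw [← PrimeSpectrum.localization_away_comap_range A₁ e]; exact Set.mem_range_self P
    rw [← hrange] at hPe
    obtain ⟨Q, hQ⟩ := hPe
    refine ⟨Q, PrimeSpectrum.comap_injective_of_surjective (algebraMap A A₁) Ideal.Quotient.mk_surjective ?_⟩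
    rw [← hQ]
    rfl
  have : Ideal.Quotient.mk (Ideal.span ({1 - e} : Set A)) a = 0 :=
    FaithfulSMul.algebraMap_injective A₁ B ((RingHom.mem_ker.mp ha).trans (map_zero _).symm)
  exact Ideal.Quotient.eq_zero_iff_mem.mp this

/-- An injective map between finite étale algebras of equal rank is bijective. -/
theorem bijective_of_injective_of_rankAtStalk_eq [Algebra.Etale R A] [Algebra.Etale R B]
    [Module.Finite R A] [Module.Finite R B] (f : A →ₐ[R] B) (hf : Function.Injective f)
    (hrank : ∀ P : PrimeSpectrum R, Module.rankAtStalk A P = Module.rankAtStalk B P) :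
    Function.Bijective f := by
  let _ := f.toRingHom.toAlgebra
  haveI : IsScalarTower R A B := IsScalarTower.of_algebraMap_eq fun r => (f.commutes r).symm
  haveI : Algebra.Etale A B := Algebra.Etale.of_restrictScalars R A B
  haveI : Module.Finite A B := Module.Finite.of_restrictScalars_finite R A B
  haveI : FaithfulSMul A B := (faithfulSMul_iff_algebraMap_injective A B).mpr hf
  haveI : Module.FaithfullyFlat A B :=
    Module.FaithfullyFlat.of_comap_surjective (Algebra.IsIntegral.comap_surjective A B)
  suffices hC : Subsingleton (B ⧸ LinearMap.range f.toLinearMap) from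
    ⟨hf, fun b => by
      obtain ⟨a, ha⟩ := (Submodule.Quotient.mk_eq_zero _).mp (hC.elim (Submodule.Quotient.mk b) 0)
      exact ⟨a, ha⟩⟩
  rw [← Module.support_eq_empty_iff (R := R), Set.eq_empty_iff_forall_notMem]
  intro P hP
  let K := P.asIdeal.ResidueField
  let L := f.toLinearMap.baseChange K
  have hinj : Function.Injective L := by
    let ψ : B ⊗[A] (A ⊗[R] K) ≃ₗ[B] B ⊗[R] K := TensorProduct.AlgebraTensorModule.cancelBaseChange R A B B K
    have h1 : ∀ t : A ⊗[R] K, ψ (1 ⊗ₜ[A] t) = f.toLinearMap.rTensor K t := fun t => by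
      induction t using TensorProduct.induction_on with
      | zero => rw [tmul_zero, map_zero, map_zero]
      | tmul x y =>
        simp only [ψ, TensorProduct.AlgebraTensorModule.cancelBaseChange_tmul, LinearMap.rTensor_tmul]
        rw [Algebra.smul_def, mul_one]
        rfl
      | add u v hu hv => rw [tmul_add, map_add, map_add, hu, hv]
    have h2 : ∀ t : K ⊗[R] A, TensorProduct.comm R K B (L t) = f.toLinearMap.rTensor K (TensorProduct.comm R K A t) :=
      fun t => by
      induction t using TensorProduct.induction_on with
      | zero => simp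
      | tmul x y => simp [L]
      | add u v hu hv => simp only [map_add, hu, hv]
    intro t t' h
    apply (TensorProduct.comm R K A).injective
    apply Module.FaithfullyFlat.tensorProduct_mk_injective (A := A) (B := B) (A ⊗[R] K)
    apply ψ.injective
    change ψ (1 ⊗ₜ[A] _) = ψ (1 ⊗ₜ[A] _)
    rw [h1, h1, ← h2, ← h2, h]
  have hsurj : Function.Surjective L := by
    refine (LinearMap.injective_iff_surjective_of_finrank_eq_finrank ?_).mp hinj
    exact (Module.rankAtStalk_eq (M := A) P).symm.trans ((hrank P).trans (Module.rankAtStalk_eq (M := B) P))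
  rw [Module.mem_support_iff_nontrivial_residueField_tensorProduct] at hP
  haveI : Subsingleton (P.asIdeal.ResidueField ⊗[R] (B ⧸ LinearMap.range f.toLinearMap)) := by
    have key : ∀ z : K ⊗[R] (B ⧸ LinearMap.range f.toLinearMap), z = 0 := fun z => by
      obtain ⟨w, rfl⟩ := LinearMap.lTensor_surjective K (LinearMap.range f.toLinearMap).mkQ_surjective z
      obtain ⟨t, rfl⟩ := hsurj w
      induction t using TensorProduct.induction_on with
      | zero => simp
      | tmul x y =>
        change x ⊗ₜ[R] (LinearMap.range f.toLinearMap).mkQ (f y) = 0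
        have h0 : (LinearMap.range f.toLinearMap).mkQ (f y) = 0 :=
          (Submodule.Quotient.mk_eq_zero _).mpr (LinearMap.mem_range.mpr ⟨y, rfl⟩)
        rw [h0, tmul_zero]
      | add u v hu hv => rw [map_add, map_add, hu, hv, add_zero]
    exact ⟨fun a b => (key a).trans (key b).symm⟩
  exact not_nontrivial _ hP

end Groth.Agent.SchFinH13
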