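import Mathlib
import Groth.Prelude.Def_SchFin
import Groth.Prelude.Def_SchFin2

/-!
Degree zero of the standard complex of a finite ringed poset, and what the schematic condition says
there.
-/

universe u

open TensorProduct

namespace Groth.Agent.SchFinH13

open SchFin

variable {X : RSpace.{u}} {U : Set X.pt} {R : Type u} [CommRing R] (φ : Coef X U R) (M : OMod X)

/-- The chain with one point. -/
def pchain (q : U) : Chain U 0 :=
  OrderEmbedding.ofStrictMono (fun _ => q) (fun a b h => absurd h (by rw [Fin.fin_one_eq_zero a, Fin.fin_one_eq_zero b]; exact lt_irrefl _))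

lemma chain_eq (σ : Chain U 0) : σ = pchain (σ 0) := by
  apply RelEmbedding.ext
  intro i
  obtain rfl : i = 0 := Fin.fin_one_eq_zero i
  rfl

/-- A family of values as a cochain. -/
def c0 (v : (q : U) → M.carrier q.1) : Cochain φ M 0 := fun σ => v (σ (Fin.last 0))

variable {φ M}

/-- The values of a degree zero cochain at the points. -/
def val0 (c : Cochain φ M 0) (q : U) : M.carrier q.1 := c (pchain q)

lemma c0_val0 (c : Cochain φ M 0) : c0 φ M (val0 c) = c := by
  funext σ
  obtain ⟨q, rfl⟩ : ∃ q, σ = pchain q := ⟨_, chain_eq σ⟩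
  rfl

lemma faceVal_zero (c : Cochain φ M 0) (σ : Chain U 1) :
    c.faceVal σ 0 = val0 c (σ 1) := by
  have h : σ.face 0 = pchain (σ 1) := (chain_eq _).trans rfl
  unfold Cochain.faceVal val0
  have := M.res_self (σ 1).1 (c (pchain (σ 1)))
  revert this
  generalize Chain.face_last_le 0 σ = hle
  intro this
  have key : ∀ (τ : Chain U 0) (hh : (τ (Fin.last 0)).1 ≤ (σ 1).1), τ = pchain (σ 1) →
      M.res hh (c τ) = c (pchain (σ 1)) := by
    rintro τ hh rfl; exact this
  exact key _ hle h

lemma faceVal_one (c : Cochain φ M 0) (σ : Chain U 1) :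
    c.faceVal σ 1 = M.res (σ.monotone (Fin.zero_le 1)) (val0 c (σ 0)) := by
  have h : σ.face 1 = pchain (σ 0) := (chain_eq _).trans rfl
  unfold Cochain.faceVal val0
  generalize Chain.face_last_le 1 σ = hle
  have key : ∀ (τ : Chain U 0) (hh : (τ (Fin.last 0)).1 ≤ (σ 1).1), τ = pchain (σ 0) →
      M.res hh (c τ) = M.res (σ.monotone (Fin.zero_le 1)) (c (pchain (σ 0))) := by
    rintro τ hh rfl; rfl
  exact key _ hle h

lemma mem_cocycles_zero_iff (c : Cochain φ M 0) : c ∈ cocycles φ M 0 ↔ val0 c ∈ M.sect U := by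
  have hd : ∀ σ : Chain U 1, diff φ M 0 c σ =
      val0 c (σ 1) - M.res (σ.monotone (Fin.zero_le 1)) (val0 c (σ 0)) := fun σ => by
    change (∑ j : Fin 2, ((-1 : ℤ) ^ (j : ℕ)) • c.faceVal σ j) = _
    rw [Fin.sum_univ_two, faceVal_zero, faceVal_one, sub_eq_add_neg]
    simp
  constructor
  · intro hc q q' h
    rcases eq_or_lt_of_le h with e | e
    · obtain rfl : q = q' := Subtype.ext e
      exact M.res_self _ _
    · let σ : Chain U 1 := OrderEmbedding.ofStrictMono ![q, q'] (Fin.strictMono_iff_lt_succ.mpr fun i => by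
        rw [Fin.fin_one_eq_zero i]; exact e)
      have h2 := (hd σ).symm.trans (congrFun (show diff φ M 0 c = 0 from hc) σ)
      exact (sub_eq_zero.mp h2).symm
  · intro hc
    refine LinearMap.mem_ker.mpr (funext fun σ => ?_)
    rw [hd]
    exact sub_eq_zero.mpr (hc _ _ _).symm

/-- The values of a class in degree zero. -/
def evH (n : H φ M 0) : (q : U) → M.carrier q.1 :=
  Quotient.liftOn' n (fun c => val0 c.1) fun a b h => by
    rw [Submodule.quotientRel_def] at h
    rw [show a = b from sub_eq_zero.mp (Subtype.ext ((Submodule.mem_bot R).mp h))]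

lemma evH_mk (c : cocycles φ M 0) : evH (H.mk φ M 0 c) = val0 c.1 := rfl

lemma mk_surjective : Function.Surjective (H.mk φ M 0) := Submodule.mkQ_surjective _

lemma evH_mem (n : H φ M 0) : evH n ∈ M.sect U := by
  obtain ⟨c, rfl⟩ := mk_surjective n
  exact (mem_cocycles_zero_iff _).mp c.2

lemma evH_injective : Function.Injective (evH (φ := φ) (M := M)) := by
  intro a b h
  obtain ⟨a, rfl⟩ := mk_surjective a
  obtain ⟨b, rfl⟩ := mk_surjective b
  rw [evH_mk, evH_mk] at h
  congr 1
  exact Subtype.ext (by rw [← c0_val0 a.1, h, c0_val0])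

lemma evH_add (a b : H φ M 0) : evH (a + b) = evH a + evH b := by
  obtain ⟨a, rfl⟩ := mk_surjective a
  obtain ⟨b, rfl⟩ := mk_surjective b
  rw [← map_add]
  rfl

lemma evH_zero : evH (0 : H φ M 0) = 0 := by
  rw [← map_zero (H.mk φ M 0)]
  rfl

lemma evH_smul (a : R) (n : H φ M 0) (q : U) : evH (a • n) q = φ.map q a • evH n q := by
  obtain ⟨c, rfl⟩ := mk_surjective n
  rw [← map_smul]
  rfl

lemma exists_evH_eq (v : (q : U) → M.carrier q.1) (hv : v ∈ M.sect U) : ∃ n : H φ M 0, evH n = v :=
  ⟨H.mk φ M 0 ⟨c0 φ M v, (mem_cocycles_zero_iff _).mpr hv⟩, rfl⟩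

variable (M) in
lemma evH_resH {U' : Set X.pt} {R' : Type u} [CommRing R'] {φ' : Coef X U' R'} (s : Coef.Sub φ φ')
    (n : H φ M 0) (q : U') : evH (resH M s 0 n) q = evH n ⟨q.1, s.le q.2⟩ := by
  obtain ⟨c, rfl⟩ := mk_surjective n
  have h : (pchain q).incl s.le = pchain (⟨q.1, s.le q.2⟩ : U) := (chain_eq _).trans rfl
  change c.1 ((pchain q).incl s.le) = c.1 (pchain _)
  have key : ∀ σ τ : Chain U 0, σ = τ → HEq (c.1 σ) (c.1 τ) := by rintro σ _ rfl; rfl
  exact eq_of_heq (key _ _ h)

section Schematic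

attribute [local irreducible] H evH resH

/-- The comparison map from `R_a ⊗[R_s] R_b` to the product of the rings over the points above `a`
and `b`. -/
noncomputable def cmp (X : RSpace.{u}) {s a b : X.pt} (ha : s ≤ a) (hb : s ≤ b) :
    letI := (X.res ha).toAlgebra
    letI := (X.res hb).toAlgebra
    X.ring a ⊗[X.ring s] X.ring b →+* ((q : ↥(X.up a ∩ X.up b)) → X.ring q.1) :=
  letI := (X.res ha).toAlgebra
  letI := (X.res hb).toAlgebra
  RingHom.pi fun q =>
    letI := (X.res (ha.trans q.2.1)).toAlgebra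
    (Algebra.TensorProduct.lift
      ({ toRingHom := X.res q.2.1, commutes' := fun r => X.res_comp ha q.2.1 r } : X.ring a →ₐ[X.ring s] X.ring q.1)
      ({ toRingHom := X.res q.2.2, commutes' := fun r => X.res_comp hb q.2.2 r } : X.ring b →ₐ[X.ring s] X.ring q.1)
      fun _ _ => Commute.all _ _).toRingHom

lemma cmp_tmul (X : RSpace.{u}) {s a b : X.pt} (ha : s ≤ a) (hb : s ≤ b) (x : X.ring a) (y : X.ring b)
    (q : ↥(X.up a ∩ X.up b)) :
    letI := (X.res ha).toAlgebra
    letI := (X.res hb).toAlgebra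
    cmp X ha hb (x ⊗ₜ y) q = X.res q.2.1 x * X.res q.2.2 y := by
  let _ := (X.res ha).toAlgebra
  let _ := (X.res hb).toAlgebra
  let _ := (X.res (ha.trans q.2.1)).toAlgebra
  simp only [cmp, RingHom.pi_apply, AlgHom.toRingHom_eq_coe, RingHom.coe_coe,
    Algebra.TensorProduct.lift_tmul]
  rfl

set_option maxHeartbeats 400000 in
/-- In a schematic space, `R_a ⊗[R_s] R_b` is the ring of sections over the points above `a` and `b`. -/
theorem cmp_bijective {X : RSpace.{u}} (hX : X.IsSchematic) {s a b : X.pt} (ha : s ≤ a) (hb : s ≤ b) :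
    Function.Injective (cmp X ha hb) ∧
      Set.range (cmp X ha hb) = (X.sectRing (X.up a ∩ X.up b) : Set _) := by
  let _ := (X.res ha).toAlgebra
  let _ := (X.res hb).toAlgebra
  let φ := Coef.ofLE (X := X) s (X.up s ∩ X.up b) Set.inter_subset_left
  let φ' := Coef.ofLE (X := X) a (X.up a ∩ X.up b) Set.inter_subset_left
  let S : Coef.Sub φ φ' :=
    { le := fun _ h => ⟨ha.trans h.1, h.2⟩, hom := X.res ha, compat := fun _ r => X.res_comp _ _ r }
  have hbc : IsBCAlong (X.res ha) (resH X.str S 0) := (hX.2.2 0 s a ha b b le_rfl).1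
  -- `R_b` is the degree zero cohomology over the points above `b`
  have hsec : ∀ x : X.ring b, (fun q : ↥(X.up s ∩ X.up b) => X.res q.2.2 x) ∈ X.str.sect _ :=
    fun x q q' h => X.res_comp _ _ x
  choose e he using fun x => exists_evH_eq (φ := φ) (M := X.str) _ (hsec x)
  let eL : X.ring b ≃ₗ[X.ring s] H φ X.str 0 := LinearEquiv.ofBijective
    { toFun := e
      map_add' := fun x y => evH_injective (by
        rw [evH_add, he, he, he]
        funext q
        exact map_add (X.res q.2.2) x y)
      map_smul' := fun r x => evH_injective (by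
        funext q
        rw [RingHom.id_apply, evH_smul, he, he, Algebra.smul_def]
        change X.res q.2.2 (X.res hb r * x) = X.res q.2.1 r * X.res q.2.2 x
        rw [map_mul]
        exact congrArg (· * _) (X.res_comp hb q.2.2 r)) }
    ⟨fun x y h => by
      have := congrFun ((he x).symm.trans ((congrArg evH h).trans (he y))) ⟨b, hb, le_rfl⟩
      exact (X.res_self b x).symm.trans (this.trans (X.res_self b y)),
     fun n => ⟨evH n ⟨b, hb, le_rfl⟩, evH_injective ((he _).trans (funext fun q =>
        evH_mem n ⟨b, hb, le_rfl⟩ q q.2.2))⟩⟩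
  let _ : Module (X.ring s) (H φ' X.str 0) := Module.compHom _ (X.res ha)
  have : IsScalarTower (X.ring s) (X.ring a) (H φ' X.str 0) :=
    IsScalarTower.of_algebraMap_smul fun _ _ => rfl
  let E := IsBaseChange.equiv hbc
  let G : X.ring a ⊗[X.ring s] X.ring b → ((q : ↥(X.up a ∩ X.up b)) → X.ring q.1) :=
    fun t => evH (E (LinearEquiv.lTensor (X.ring a) eL t))
  have hE : ∀ (x : X.ring a) (n : H φ X.str 0), E (x ⊗ₜ n) = x • resH X.str S 0 n :=
    fun x n => IsBaseChange.equiv_tmul hbc x n
  have hev : ∀ (x : X.ring a) (n : H φ X.str 0) (q : ↥(X.up a ∩ X.up b)),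
      evH (E (x ⊗ₜ n)) q = X.res q.2.1 x * (show X.ring q.1 from evH n ⟨q.1, S.le q.2⟩) := fun x n q => by
    rw [hE x n]
    exact (evH_smul (φ := φ') (M := X.str) x _ q).trans (congrArg (fun z => φ'.map q x • z) (evH_resH X.str S n q))
  have hG : ∀ t, cmp X ha hb t = G t := by
    intro t
    induction t using TensorProduct.induction_on with
    | zero =>
      simp only [G, map_zero]
      exact (evH_zero (φ := φ') (M := X.str)).symm
    | tmul x y =>
      funext q
      rw [cmp_tmul]
      simp only [G]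
      rw [LinearEquiv.lTensor_tmul]
      exact ((hev x (e y) q).trans (congrArg (fun z => X.res q.2.1 x * z) (congrFun (he y) _))).symm
    | add u v hu hv =>
      rw [map_add, hu, hv]
      simp only [G, map_add]
      exact (evH_add (φ := φ') (M := X.str) _ _).symm
  refine ⟨fun t t' h => ?_, Set.Subset.antisymm ?_ ?_⟩
  · rw [hG, hG] at h
    exact (LinearEquiv.lTensor (X.ring a) eL).injective (E.injective (evH_injective h))
  · rintro _ ⟨t, rfl⟩
    rw [hG]
    exact evH_mem (φ := φ') (M := X.str) _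
  · intro v hv
    obtain ⟨n, hn⟩ := exists_evH_eq (φ := φ') (M := X.str) v hv
    obtain ⟨t, ht⟩ := ((LinearEquiv.lTensor (X.ring a) eL).toEquiv.trans E.toEquiv).surjective n
    refine ⟨t, ?_⟩
    rw [hG, ← hn, ← ht]
    rfl

/-- Restriction maps of a schematic space are epimorphisms of rings. -/
theorem res_epi {X : RSpace.{u}} (hX : X.IsSchematic) {x y : X.pt} (h : x ≤ y)
    {T : Type u} [CommRing T] (g₁ g₂ : X.ring y →+* T) (hg : g₁.comp (X.res h) = g₂.comp (X.res h)) :
    g₁ = g₂ := by
  let _ := (X.res h).toAlgebra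
  let _ := (g₁.comp (X.res h)).toAlgebra
  let G₁ : X.ring y →ₐ[X.ring x] T := { toRingHom := g₁, commutes' := fun r => rfl }
  let G₂ : X.ring y →ₐ[X.ring x] T :=
    { toRingHom := g₂, commutes' := fun r => (RingHom.congr_fun hg r).symm }
  refine RingHom.ext fun a => ?_
  have e : a ⊗ₜ[X.ring x] (1 : X.ring y) = 1 ⊗ₜ a := by
    apply (cmp_bijective hX h h).1
    funext q
    rw [cmp_tmul, cmp_tmul]
    exact ((congrArg _ (map_one _)).trans (mul_one _)).trans
      ((congrArg (· * _) (map_one _)).trans (one_mul _)).symm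
  have := congrArg (Algebra.TensorProduct.lift G₁ G₂ fun _ _ => Commute.all _ _) e
  simp only [Algebra.TensorProduct.lift_tmul, map_one, mul_one, one_mul] at this
  exact this

end Schematic

end Groth.Agent.SchFinH13
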