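import Mathlib
import Groth.Agent.Lib.SchFinH13.H0

/-!
Pairs, schematic points and connectedness of schematic finite spaces.
-/

universe u

open TensorProduct

namespace Groth.Agent.SchFinH13

open SchFin

/-- A prime of a finite product of rings comes from one factor. -/
lemma exists_factor_of_prime {ι : Type*} [Finite ι] {R : ι → Type*} [∀ i, CommRing (R i)]
    (r : PrimeSpectrum (∀ i, R i)) :
    ∃ (i : ι) (t : PrimeSpectrum (R i)), PrimeSpectrum.comap (Pi.evalRingHom R i) t = r := by
  obtain ⟨⟨i, t⟩, h⟩ := (PrimeSpectrum.sigmaToPi_bijective R).2 r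
  exact ⟨i, t, h⟩

/-- Two primes with the same contraction are the contractions of a ring map to a field. -/
lemma exists_field_of_comap_eq {A B C : Type u} [CommRing A] [CommRing B] [CommRing C] (f : A →+* B)
    (g : A →+* C) (P : PrimeSpectrum B) (Q : PrimeSpectrum C)
    (h : PrimeSpectrum.comap f P = PrimeSpectrum.comap g Q) :
    ∃ (L : Type u) (_ : Field L) (ψb : B →+* L) (ψc : C →+* L),
      ψb.comp f = ψc.comp g ∧ RingHom.ker ψb = P.asIdeal ∧ RingHom.ker ψc = Q.asIdeal := by
  let p : PrimeSpectrum A := PrimeSpectrum.comap f P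
  let αb : p.asIdeal.ResidueField →+* P.asIdeal.ResidueField :=
    Ideal.ResidueField.map p.asIdeal P.asIdeal f rfl
  let αc : p.asIdeal.ResidueField →+* Q.asIdeal.ResidueField :=
    Ideal.ResidueField.map p.asIdeal Q.asIdeal g (congrArg PrimeSpectrum.asIdeal h)
  let _ := αb.toAlgebra
  let _ := αc.toAlgebra
  haveI : Nontrivial (P.asIdeal.ResidueField ⊗[p.asIdeal.ResidueField] Q.asIdeal.ResidueField) :=
    (Algebra.TensorProduct.includeLeft_injective (S := P.asIdeal.ResidueField)
      (A := P.asIdeal.ResidueField) (B := Q.asIdeal.ResidueField)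
      (algebraMap p.asIdeal.ResidueField Q.asIdeal.ResidueField).injective).nontrivial
  obtain ⟨m, hm⟩ := Ideal.exists_maximal (P.asIdeal.ResidueField ⊗[p.asIdeal.ResidueField] Q.asIdeal.ResidueField)
  haveI := hm
  letI : Field ((P.asIdeal.ResidueField ⊗[p.asIdeal.ResidueField] Q.asIdeal.ResidueField) ⧸ m) :=
    Ideal.Quotient.field m
  let eb : P.asIdeal.ResidueField →+* _ :=
    (Ideal.Quotient.mk m).comp Algebra.TensorProduct.includeLeftRingHom
  let ec : Q.asIdeal.ResidueField →+* _ :=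
    (Ideal.Quotient.mk m).comp Algebra.TensorProduct.includeRight.toRingHom
  refine ⟨_, inferInstance, eb.comp (algebraMap B P.asIdeal.ResidueField),
    ec.comp (algebraMap C Q.asIdeal.ResidueField), RingHom.ext fun a => ?_, ?_, ?_⟩
  · simp only [RingHom.comp_apply]
    have hb : algebraMap B P.asIdeal.ResidueField (f a) = αb (algebraMap A p.asIdeal.ResidueField a) :=
      (Ideal.ResidueField.map_algebraMap _ _ _ _ a).symm
    have hc : algebraMap C Q.asIdeal.ResidueField (g a) = αc (algebraMap A p.asIdeal.ResidueField a) :=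
      (Ideal.ResidueField.map_algebraMap _ _ _ _ a).symm
    rw [hb, hc]
    exact congrArg (Ideal.Quotient.mk m)
      (Algebra.TensorProduct.tmul_one_eq_one_tmul (A := P.asIdeal.ResidueField)
        (B := Q.asIdeal.ResidueField) (algebraMap A p.asIdeal.ResidueField a))
  · ext x
    rw [RingHom.mem_ker, RingHom.comp_apply, map_eq_zero_iff eb eb.injective,
      Ideal.algebraMap_residueField_eq_zero]
  · ext x
    rw [RingHom.mem_ker, RingHom.comp_apply, map_eq_zero_iff ec ec.injective,
      Ideal.algebraMap_residueField_eq_zero]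

variable {X : RSpace.{u}}

/-- The standing hypothesis on intersections of minimal open sets. -/
def InterFF (X : RSpace.{u}) : Prop :=
  ∀ s a b : X.pt, s ≤ a → s ≤ b → (X.up a ∩ X.up b).Nonempty →
    Module.FaithfullyFlat (X.sectRing (X.up a ∩ X.up b)) ((q : ↥(X.up a ∩ X.up b)) → X.ring q.1)

/-- Primes with the same contraction at a common smaller point are related. -/
theorem pairRel_of_comap_eq (hX : X.IsSchematic) (hff : InterFF X) {s x y : X.pt} (hx : s ≤ x)
    (hy : s ≤ y) (P : PrimeSpectrum (X.ring x)) (Q : PrimeSpectrum (X.ring y))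
    (hPQ : PrimeSpectrum.comap (X.res hx) P = PrimeSpectrum.comap (X.res hy) Q) :
    X.PairRel ⟨x, P⟩ ⟨y, Q⟩ := by
  obtain ⟨L, _, ψa, ψb, hψ, hP, hQ⟩ := exists_field_of_comap_eq _ _ P Q hPQ
  let _ := (X.res hx).toAlgebra
  let _ := (X.res hy).toAlgebra
  let _ := (ψa.comp (X.res hx)).toAlgebra
  let T := X.ring x ⊗[X.ring s] X.ring y
  let Φ : T →+* L :=
    (Algebra.TensorProduct.lift ({ toRingHom := ψa, commutes' := fun r => rfl } : X.ring x →ₐ[X.ring s] L)
      ({ toRingHom := ψb, commutes' := fun r => (RingHom.congr_fun hψ r).symm } : X.ring y →ₐ[X.ring s] L)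
      fun _ _ => Commute.all _ _).toRingHom
  obtain ⟨hinj, hrange⟩ := cmp_bijective hX hx hy
  let c : T →+* X.sectRing (X.up x ∩ X.up y) :=
    (cmp X hx hy).codRestrict _ fun t => hrange.le (Set.mem_range_self t)
  let e : T ≃+* X.sectRing (X.up x ∩ X.up y) := RingEquiv.ofBijective c
    ⟨fun a b h => hinj (congrArg Subtype.val h), fun v => by
      obtain ⟨t, ht⟩ := hrange.ge v.2; exact ⟨t, Subtype.ext ht⟩⟩
  let 𝔭 : PrimeSpectrum T := ⟨RingHom.ker Φ, RingHom.ker_isPrime Φ⟩
  have hne : (X.up x ∩ X.up y).Nonempty := by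
    by_contra h
    rw [Set.not_nonempty_iff_eq_empty] at h
    haveI : IsEmpty ↥(X.up x ∩ X.up y) := by rw [h]; infer_instance
    have h1 : (1 : T) = 0 := hinj (Subsingleton.elim _ _)
    exact one_ne_zero ((map_one Φ).symm.trans ((congrArg Φ h1).trans (map_zero Φ)))
  haveI := hff s x y hx hy hne
  obtain ⟨r, hr⟩ := PrimeSpectrum.comap_surjective_of_faithfullyFlat
    (A := X.sectRing (X.up x ∩ X.up y)) (B := (q : ↥(X.up x ∩ X.up y)) → X.ring q.1)
    (PrimeSpectrum.comap e.symm.toRingHom 𝔭)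
  obtain ⟨q, t, rfl⟩ := exists_factor_of_prime r
  have hmem : ∀ u : T, u ∈ RingHom.ker Φ ↔ cmp X hx hy u q ∈ t.asIdeal := fun u => by
    have := congrArg (fun z : PrimeSpectrum (X.sectRing (X.up x ∩ X.up y)) => e u ∈ z.asIdeal) hr
    simp only [PrimeSpectrum.comap_asIdeal, Ideal.mem_comap, eq_iff_iff] at this
    change (cmp X hx hy u q ∈ t.asIdeal ↔ e.symm (e u) ∈ RingHom.ker Φ) at this
    rw [RingEquiv.symm_apply_apply] at this
    exact this.symm
  refine ⟨q.1, q.2.1, q.2.2, t, PrimeSpectrum.ext (Ideal.ext fun a => ?_), PrimeSpectrum.ext (Ideal.ext fun b => ?_)⟩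
  · have := hmem (a ⊗ₜ 1)
    rw [cmp_tmul, map_one, mul_one, RingHom.mem_ker] at this
    rw [PrimeSpectrum.comap_asIdeal, Ideal.mem_comap]
    refine this.symm.trans ?_
    change ψa a * ψb 1 = 0 ↔ _
    rw [map_one, mul_one, ← RingHom.mem_ker, hP]
  · have := hmem (1 ⊗ₜ b)
    rw [cmp_tmul, map_one, one_mul, RingHom.mem_ker] at this
    rw [PrimeSpectrum.comap_asIdeal, Ideal.mem_comap]
    refine this.symm.trans ?_
    change ψa 1 * ψb b = 0 ↔ _
    rw [map_one, one_mul, ← RingHom.mem_ker, hQ]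

lemma pairRel_refl (a : X.Pair) : X.PairRel a a :=
  ⟨a.1, le_rfl, le_rfl, a.2, PrimeSpectrum.ext (Ideal.ext fun x => by
    simp only [PrimeSpectrum.comap_asIdeal, Ideal.mem_comap, X.res_self]),
    PrimeSpectrum.ext (Ideal.ext fun x => by
    simp only [PrimeSpectrum.comap_asIdeal, Ideal.mem_comap, X.res_self])⟩

lemma comap_res_comp {p q s : X.pt} (h : p ≤ q) (h' : q ≤ s) (r : PrimeSpectrum (X.ring s)) :
    PrimeSpectrum.comap (X.res h) (PrimeSpectrum.comap (X.res h') r) =
      PrimeSpectrum.comap (X.res (h.trans h')) r := by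
  apply PrimeSpectrum.ext
  ext x
  simp only [PrimeSpectrum.comap_asIdeal, Ideal.mem_comap, X.res_comp]

lemma pairRel_symm {a b : X.Pair} : X.PairRel a b → X.PairRel b a
  | ⟨z, ha, hb, r, e1, e2⟩ => ⟨z, hb, ha, r, e2, e1⟩

lemma pairRel_trans (hX : X.IsSchematic) (hff : InterFF X) {a b c : X.Pair} :
    X.PairRel a b → X.PairRel b c → X.PairRel a c := by
  rintro ⟨z, ha, hb, r, e1, e2⟩ ⟨z', hb', hc, r', e3, e4⟩
  obtain ⟨w, hzw, hzw', t, f1, f2⟩ := pairRel_of_comap_eq hX hff hb hb' r r' (e2.trans e3.symm)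
  change z ≤ w at hzw
  change z' ≤ w at hzw'
  refine ⟨w, ha.trans hzw, hc.trans hzw', t, ?_, ?_⟩
  · rw [← comap_res_comp ha hzw, f1, e1]
  · rw [← comap_res_comp hc hzw', f2, e4]

theorem pairRel_equivalence (hX : X.IsSchematic) (hff : InterFF X) : Equivalence X.PairRel :=
  ⟨pairRel_refl, pairRel_symm, pairRel_trans hX hff⟩

theorem existsUnique_maximal (hX : X.IsSchematic) (hff : InterFF X) (c : X.SchPt) :
    ∃! a : X.Pair, Quot.mk X.PairRel a = c ∧ ∀ b : X.Pair, Quot.mk X.PairRel b = c → b.1 ≤ a.1 := by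
  have hiff : ∀ a b : X.Pair, Quot.mk X.PairRel a = Quot.mk X.PairRel b ↔ X.PairRel a b := fun a b =>
    Quot.eq.trans (Equivalence.eqvGen_iff (pairRel_equivalence hX hff))
  obtain ⟨a₀, rfl⟩ := Quot.exists_rep c
  let S : Set X.pt := {p | ∃ r, X.PairRel ⟨p, r⟩ a₀}
  obtain ⟨p, hp⟩ := S.toFinite.exists_maximal ⟨a₀.1, a₀.2, pairRel_refl _⟩
  obtain ⟨⟨r, hr⟩, hmax⟩ := hp
  have huniq : ∀ (b : X.Pair), X.PairRel b a₀ → ∃ (hb : b.1 ≤ p),
      PrimeSpectrum.comap (X.res hb) r = b.2 := by
    intro b hb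
    obtain ⟨w, h1, h2, t, e1, e2⟩ := pairRel_trans hX hff hb (pairRel_symm hr)
    change p ≤ w at h2
    have hw : w ∈ S := ⟨t, pairRel_trans hX hff
      ⟨w, le_rfl, h2, t, PrimeSpectrum.ext (Ideal.ext fun x => by
        simp only [PrimeSpectrum.comap_asIdeal, Ideal.mem_comap, X.res_self]), e2⟩ hr⟩
    obtain rfl : w = p := le_antisymm (hmax hw h2) h2
    refine ⟨h1, ?_⟩
    obtain rfl : t = r := (PrimeSpectrum.ext (Ideal.ext fun x => by
      simp only [PrimeSpectrum.comap_asIdeal, Ideal.mem_comap, X.res_self])).trans e2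
    exact e1
  refine ⟨⟨p, r⟩, ⟨(hiff _ _).mpr hr, fun b hb => (huniq b ((hiff _ _).mp hb)).1⟩, ?_⟩
  rintro ⟨q, t⟩ ⟨hqc, hq⟩
  have h2 : p ≤ q := hq ⟨p, r⟩ ((hiff _ _).mpr hr)
  obtain ⟨h1, e⟩ := huniq ⟨q, t⟩ ((hiff _ _).mp hqc)
  change q ≤ p at h1
  obtain rfl : q = p := le_antisymm h1 h2
  obtain rfl : r = t := (PrimeSpectrum.ext (Ideal.ext fun x => by
    simp only [PrimeSpectrum.comap_asIdeal, Ideal.mem_comap, X.res_self])).trans e
  rfl

theorem localRingHom_bijective (hX : X.IsSchematic) {x y : X.pt} (h : x ≤ y)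
    (P : Ideal (X.ring y)) [P.IsPrime] :
    Function.Bijective (Localization.localRingHom (P.comap (X.res h)) P (X.res h) rfl) := by
  set g := Localization.localRingHom (P.comap (X.res h)) P (X.res h) rfl with hgdef
  have hflat : g.Flat := RingHom.Flat.localRingHom (hX.1.2 x y h) P _ rfl
  let _ := g.toAlgebra
  haveI : Module.Flat (Localization.AtPrime (P.comap (X.res h))) (Localization.AtPrime P) := hflat
  haveI hloc : IsLocalHom (algebraMap (Localization.AtPrime (P.comap (X.res h))) (Localization.AtPrime P)) :=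
    Localization.isLocalHom_localRingHom _ _ _ rfl
  haveI : Module.FaithfullyFlat (Localization.AtPrime (P.comap (X.res h))) (Localization.AtPrime P) :=
    Module.FaithfullyFlat.of_flat_of_isLocalHom
  refine ⟨FaithfulSMul.algebraMap_injective _ _, ?_⟩
  let S' := Localization.AtPrime P
  let R' := Localization.AtPrime (P.comap (X.res h))
  have hLR : (Algebra.TensorProduct.includeLeftRingHom : S' →+* S' ⊗[R'] S') =
      (Algebra.TensorProduct.includeRight : S' →ₐ[R'] S' ⊗[R'] S').toRingHom := by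
    refine IsLocalization.ringHom_ext P.primeCompl (res_epi hX h _ _ (RingHom.ext fun a => ?_))
    have e : algebraMap (X.ring y) S' (X.res h a) =
        algebraMap R' S' (algebraMap (X.ring x) R' a) :=
      (Localization.localRingHom_to_map _ _ _ rfl a).symm
    simp only [RingHom.comp_apply, e]
    exact Algebra.TensorProduct.tmul_one_eq_one_tmul _
  refine (Module.FaithfullyFlat.lTensor_surjective_iff_surjective R' S' (Algebra.linearMap R' S')).mp ?_
  intro t
  induction t using TensorProduct.induction_on with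
  | zero => exact ⟨0, map_zero _⟩
  | tmul a b =>
    refine ⟨(a * b) ⊗ₜ 1, ?_⟩
    rw [LinearMap.lTensor_tmul, Algebra.linearMap_apply, map_one]
    have e : b ⊗ₜ[R'] (1 : S') = 1 ⊗ₜ b := RingHom.congr_fun hLR b
    calc (a * b) ⊗ₜ[R'] (1 : S') = (a ⊗ₜ 1) * (b ⊗ₜ 1) := by
          rw [Algebra.TensorProduct.tmul_mul_tmul, one_mul]
      _ = a ⊗ₜ b := by rw [e, Algebra.TensorProduct.tmul_mul_tmul, one_mul, mul_one]
  | add u v hu hv =>
    obtain ⟨u', rfl⟩ := hu
    obtain ⟨v', rfl⟩ := hv
    exact ⟨u' + v', map_add _ _ _⟩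

theorem κMap_bijective (hX : X.IsSchematic) (a b : X.Pair) (h : a.1 ≤ b.1)
    (hp : PrimeSpectrum.comap (X.res h) b.2 = a.2) :
    Function.Bijective (RSpace.Pair.κMap a b h hp) := by
  refine ⟨RingHom.injective _, ?_⟩
  obtain ⟨p, P⟩ := a
  obtain ⟨y, Q⟩ := b
  change p ≤ y at h
  revert hp
  change ∀ hp : PrimeSpectrum.comap (X.res h) Q = P, _
  rintro rfl
  intro z
  obtain ⟨y, rfl⟩ := Ideal.Quotient.mk_surjective z
  obtain ⟨x, rfl⟩ := (localRingHom_bijective hX h Q.asIdeal).2 y
  exact ⟨Ideal.Quotient.mk _ x, rfl⟩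

/-- The spectrum of a ring is connected exactly when the ring is nonzero and has no nontrivial idempotents. -/
lemma connectedSpace_iff (A : Type*) [CommRing A] :
    ConnectedSpace (PrimeSpectrum A) ↔ Nontrivial A ∧ ∀ e : A, IsIdempotentElem e → e = 0 ∨ e = 1 := by
  constructor
  · intro hc
    refine ⟨PrimeSpectrum.nonempty_iff_nontrivial.mp hc.toNonempty, fun e he => ?_⟩
    rcases isClopen_iff.mp (PrimeSpectrum.isClopen_iff.mpr ⟨e, he, rfl⟩) with h | h
    · refine Or.inl (he.eq_zero_of_isNilpotent ?_)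
      exact PrimeSpectrum.basicOpen_eq_bot_iff e |>.mp (SetLike.coe_injective h)
    · refine Or.inr ?_
      have hu : IsUnit e := by
        by_contra hne
        obtain ⟨m, hm, hem⟩ := exists_max_ideal_of_mem_nonunits hne
        exact (show (⟨m, hm.isPrime⟩ : PrimeSpectrum A) ∈ (PrimeSpectrum.basicOpen e : Set (PrimeSpectrum A)) from
          h ▸ Set.mem_univ _) hem
      exact hu.mul_left_cancel (he.trans (mul_one e).symm)
  · rintro ⟨hn, h⟩
    haveI : Nonempty (PrimeSpectrum A) := PrimeSpectrum.nonempty_iff_nontrivial.mpr hn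
    haveI : PreconnectedSpace (PrimeSpectrum A) := preconnectedSpace_iff_clopen.mpr fun s hs => by
      obtain ⟨e, he, rfl⟩ := PrimeSpectrum.isClopen_iff.mp hs
      rcases h e he with rfl | rfl <;> simp
    exact ⟨inferInstance⟩

theorem isTopConnected_of_isConnected (hc : X.IsConnected) (hp : X.IsPwConnected) : X.IsTopConnected := by
  classical
  haveI : ∀ p, Nontrivial (X.ring p) := fun p => ((connectedSpace_iff _).mp (hp p)).1
  obtain ⟨hn, hid⟩ := (connectedSpace_iff _).mp hc
  refine ⟨?_, fun p q => ?_⟩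
  · by_contra h
    haveI : IsEmpty X.pt := not_nonempty_iff.mp h
    exact false_of_nontrivial_of_subsingleton (X.sectRing Set.univ)
  · let R := Relation.EqvGen (fun a b : X.pt => a ≤ b)
    let e : (z : ↥(Set.univ : Set X.pt)) → X.ring z.1 := fun z => if R p z.1 then 1 else 0
    have hmem : e ∈ X.sectRing Set.univ := fun z z' hzz => by
      have hiff : R p z.1 ↔ R p z'.1 :=
        ⟨fun hz => .trans _ _ _ hz (.rel _ _ hzz), fun hz => .trans _ _ _ hz (.symm _ _ (.rel _ _ hzz))⟩
      simp only [e]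
      by_cases hz : R p z.1
      · rw [if_pos hz, if_pos (hiff.mp hz), map_one]
      · rw [if_neg hz, if_neg (mt hiff.mpr hz), map_zero]
    have he : IsIdempotentElem (⟨e, hmem⟩ : X.sectRing Set.univ) := by
      refine Subtype.ext (funext fun z => ?_)
      change e z * e z = e z
      simp only [e]; split_ifs <;> simp
    by_contra hpq
    rcases hid _ he with h | h
    · have h0 := congrArg (fun s : X.sectRing Set.univ => s.1 ⟨p, trivial⟩) h
      simp only [e, if_pos (show R p p from .refl _)] at h0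
      exact zero_ne_one (h0 : (1 : X.ring p) = 0).symm
    · have h0 : e ⟨q, trivial⟩ = 1 := congrArg (fun s : X.sectRing Set.univ => s.1 ⟨q, trivial⟩) h
      have h1 : e ⟨q, trivial⟩ = 0 := if_neg hpq
      exact zero_ne_one (h1.symm.trans h0)

theorem isConnected_of_isTopConnected (ht : X.IsTopConnected) (hp : X.IsPwConnected) :
    X.IsConnected := by
  obtain ⟨⟨p₀⟩, hconn⟩ := ht
  haveI : ∀ p, Nontrivial (X.ring p) := fun p => ((connectedSpace_iff _).mp (hp p)).1
  refine (connectedSpace_iff _).mpr ⟨⟨0, 1, fun h => zero_ne_one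
    (congrArg (fun s : X.sectRing Set.univ => s.1 ⟨p₀, trivial⟩) h : (0 : X.ring p₀) = 1)⟩, fun e he => ?_⟩
  have h01 : ∀ p, e.1 ⟨p, trivial⟩ = 0 ∨ e.1 ⟨p, trivial⟩ = 1 := fun p =>
    ((connectedSpace_iff _).mp (hp p)).2 _ (congrArg (fun s : X.sectRing Set.univ => s.1 ⟨p, trivial⟩) he)
  have hconst : ∀ p q, Relation.EqvGen (fun a b : X.pt => a ≤ b) p q →
      (e.1 ⟨p, trivial⟩ = 0 ↔ e.1 ⟨q, trivial⟩ = 0) := by
    intro p q h
    induction h with
    | rel a b hab =>
      refine ⟨fun h0 => ?_, fun h0 => ?_⟩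
      · rw [← e.2 ⟨a, trivial⟩ ⟨b, trivial⟩ hab, h0, map_zero]
      · refine (h01 a).resolve_right fun h1 => ?_
        rw [← e.2 ⟨a, trivial⟩ ⟨b, trivial⟩ hab, h1, map_one] at h0
        exact one_ne_zero h0
    | refl a => exact Iff.rfl
    | symm a b _ ih => exact ih.symm
    | trans a b c _ _ ih ih' => exact ih.trans ih'
  rcases h01 p₀ with h | h
  · exact Or.inl (Subtype.ext (funext fun p => (hconst p₀ p.1 (hconn _ _)).mp h))
  · refine Or.inr (Subtype.ext (funext fun p => (h01 p.1).resolve_left fun h0 => ?_))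
    exact one_ne_zero (h ▸ (hconst p₀ p.1 (hconn _ _)).mpr h0)

theorem exists_eq_comp_of_pwConnected (ht : X.IsTopConnected) (hp : X.IsPwConnected)
    (F E : Type) [Finite F] [Finite E]
    (f : ∀ p : X.pt, (F → X.ring p) →ₐ[X.ring p] (E → X.ring p))
    (hf : ∀ (p q : X.pt) (h : p ≤ q) (g : F → X.ring p) (e : E),
      X.res h (f p g e) = f q (fun i => X.res h (g i)) e) :
    ∃ φ : E → F, ∀ (p : X.pt) (g : F → X.ring p) (e : E), f p g e = g (φ e) := by
  classical
  cases nonempty_fintype F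
  obtain ⟨⟨p₀⟩, hconn⟩ := ht
  haveI : ∀ p, Nontrivial (X.ring p) := fun p => ((connectedSpace_iff _).mp (hp p)).1
  let ι : ∀ p, F → E → X.ring p := fun p i e => f p (Pi.single i 1) e
  have h01 : ∀ p i e, ι p i e = 0 ∨ ι p i e = 1 := fun p i e => by
    refine ((connectedSpace_iff _).mp (hp p)).2 _ ?_
    change f p _ e * f p _ e = f p _ e
    rw [← Pi.mul_apply, ← map_mul, ← Pi.single_mul, one_mul]
  have hsum : ∀ p e, ∑ i, ι p i e = 1 := fun p e => by
    change ∑ i, f p (Pi.single i 1) e = 1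
    rw [← Finset.sum_apply, ← map_sum, Finset.univ_sum_single, show (fun _ : F => (1 : X.ring p)) = 1 from rfl,
      map_one, Pi.one_apply]
  have hex : ∀ p e, ∃ i, ι p i e = 1 := fun p e => by
    by_contra h
    push Not at h
    exact one_ne_zero ((hsum p e).symm.trans (Finset.sum_eq_zero fun i _ => (h01 p i e).resolve_right (h i)))
  have horth : ∀ p e i j, ι p i e = 1 → ι p j e = 1 → i = j := fun p e i j hi hj => by
    by_contra hne
    have : ι p i e * ι p j e = 0 := by
      change f p _ e * f p _ e = 0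
      rw [← Pi.mul_apply, ← map_mul, show (Pi.single i 1 : F → X.ring p) * Pi.single j 1 = 0 from ?_, map_zero, Pi.zero_apply]
      funext k
      simp only [Pi.mul_apply, Pi.single_apply, Pi.zero_apply]
      split_ifs <;> simp_all
    rw [hi, hj, one_mul] at this
    exact one_ne_zero this
  have hres : ∀ p q (h : p ≤ q) i e, X.res h (ι p i e) = ι q i e := fun p q h i e => by
    change X.res h (f p _ e) = f q _ e
    rw [hf]
    exact congrArg (fun g => f q g e) (funext fun k => by
      simp only [Pi.single_apply, apply_ite (X.res h), map_one, map_zero])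
  choose φ hφ using hex p₀
  have hall : ∀ p q, Relation.EqvGen (fun a b : X.pt => a ≤ b) p q → ∀ e i, ι p i e = 1 → ι q i e = 1 := by
    have hiff : ∀ p q, Relation.EqvGen (fun a b : X.pt => a ≤ b) p q → ∀ e i, ι p i e = 1 ↔ ι q i e = 1 := by
      intro p q h
      induction h with
      | rel a b hab =>
        intro e i
        refine ⟨fun h1 => by rw [← hres a b hab, h1, map_one], fun h1 => (h01 a i e).resolve_left fun h0 => ?_⟩
        rw [← hres a b hab, h0, map_zero] at h1
        exact zero_ne_one h1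
      | refl a => exact fun _ _ => Iff.rfl
      | symm a b _ ih => exact fun e i => (ih e i).symm
      | trans a b c _ _ ih ih' => exact fun e i => (ih e i).trans (ih' e i)
    exact fun p q h e i => (hiff p q h e i).mp
  refine ⟨φ, fun p g e => ?_⟩
  have hone : ∀ i, ι p i e = if i = φ e then 1 else 0 := fun i => by
    split_ifs with h
    · exact h ▸ hall p₀ p (hconn _ _) e _ (hφ e)
    · exact (h01 p i e).resolve_right fun h1 => h (horth p e _ _ h1 (hall p₀ p (hconn _ _) e _ (hφ e)))
  have hg : g = ∑ i, g i • Pi.single i 1 := by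
    funext k
    simp [Pi.single_apply, Finset.sum_apply]
  conv_lhs => rw [hg]
  rw [map_sum, Finset.sum_apply]
  simp only [map_smul, Pi.smul_apply]
  simp [show ∀ i, f p (Pi.single i 1) e = if i = φ e then 1 else 0 from hone]

theorem comap_ne_ker (hX : X.IsSchematic) {Ω : Type u} [Field Ω] [IsAlgClosed Ω] (ξ : GeomPt X Ω)
    {x' : X.pt} (hx : ξ.base < x') (P : Ideal (X.ring x')) [P.IsPrime] :
    P.comap (X.res hx.le) ≠ RingHom.ker ξ.toField := by
  intro hP
  let _ := (X.res hx.le).toAlgebra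
  let _ := ξ.toField.toAlgebra
  have hbc := (ξ.isSchematic.2.2 0 PUnit.unit PUnit.unit le_rfl ξ.base x' hx.le).2
  let U := ξ.hom.wedge PUnit.unit ξ.base
  let φ := Coef.ofHom ξ.hom ξ.base U (ξ.hom.wedge_subset_pre _ _)
  let φ' := Coef.ofHom ξ.hom x' (ξ.hom.wedge PUnit.unit x') (ξ.hom.wedge_subset_pre _ _)
  choose e₀ he₀ using fun c : Ω =>
    exists_evH_eq (φ := φ) (M := (RSpace.point Ω).str) (fun _ => c) fun _ _ _ => rfl
  let e : Ω →ₗ[X.ring ξ.base] H φ (RSpace.point Ω).str 0 :=
    { toFun := e₀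
      map_add' := fun c d => evH_injective
        ((he₀ _).trans ((evH_add (e₀ c) (e₀ d)).trans (congrArg₂ (· + ·) (he₀ c) (he₀ d))).symm)
      map_smul' := fun r c => evH_injective (funext fun q =>
        (congrFun (he₀ _) q).trans (((evH_smul r (e₀ c) q).trans
          (congrArg (fun z => φ.map q r • z) (congrFun (he₀ c) q))).trans
          (congrArg (fun z => ξ.toField z * c) (X.res_self _ r))).symm) }
  have he : ∀ c, evH (e c) = fun _ => c := he₀
  have einj : Function.Surjective e := fun n => ⟨evH n ⟨PUnit.unit, le_rfl, le_rfl⟩, evH_injective ((he _).trans (funext fun q => rfl))⟩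
  haveI : Subsingleton (H φ' (RSpace.point Ω).str 0) :=
    ⟨fun a b => evH_injective (funext fun q => absurd (q.2.2 : x' ≤ ξ.base) hx.not_ge)⟩
  let _ : Module (X.ring ξ.base) (H φ' (RSpace.point Ω).str 0) := Module.compHom _ (X.res hx.le)
  haveI : IsScalarTower (X.ring ξ.base) (X.ring x') (H φ' (RSpace.point Ω).str 0) :=
    IsScalarTower.of_algebraMap_smul fun _ _ => rfl
  haveI : Subsingleton (X.ring x' ⊗[X.ring ξ.base] H φ (RSpace.point Ω).str 0) :=
    (IsBaseChange.equiv hbc).toEquiv.subsingleton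
  have hinj : Function.Injective e := fun c d h => by
    have := congrFun ((he c).symm.trans ((congrArg evH h).trans (he d))) ⟨PUnit.unit, le_rfl, le_rfl⟩
    exact this
  let eL := LinearEquiv.ofBijective e ⟨hinj, einj⟩
  haveI : Subsingleton (X.ring x' ⊗[X.ring ξ.base] Ω) :=
    (LinearEquiv.lTensor (X.ring x') eL).toEquiv.subsingleton
  haveI : (RingHom.ker ξ.toField).IsPrime := RingHom.ker_isPrime _
  obtain ⟨L, _, ψb, ψc, hψ, -, -⟩ := exists_field_of_comap_eq (X.res hx.le) ξ.toField
    (⟨P, inferInstance⟩ : PrimeSpectrum (X.ring x')) (⟨⊥, Ideal.isPrime_bot⟩ : PrimeSpectrum Ω)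
    (PrimeSpectrum.ext hP)
  let _ := (ψb.comp (X.res hx.le)).toAlgebra
  let Φ := Algebra.TensorProduct.lift ({ toRingHom := ψb, commutes' := fun r => rfl } : X.ring x' →ₐ[X.ring ξ.base] L)
    ({ toRingHom := ψc, commutes' := fun r => (RingHom.congr_fun hψ r).symm } : Ω →ₐ[X.ring ξ.base] L)
    fun _ _ => Commute.all _ _
  exact zero_ne_one ((map_zero Φ).symm.trans ((congrArg Φ (Subsingleton.elim 0 1)).trans (map_one Φ)))

end Groth.Agent.SchFinH13
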