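import Mathlib
import Groth.Agent.Lib.SchFinH13.Pairs

/-!
Criteria for base change along ring maps, and geometric points of schematic finite spaces.
-/

universe u

open TensorProduct

namespace Groth.Agent.SchFinH13

open SchFin

section BC

variable {R S : Type u} [CommRing R] [CommRing S] (g : R →+* S) {M N : Type u}
    [AddCommGroup M] [AddCommGroup N] [Module R M] [Module S N] (f : M →ₛₗ[g] N)

/-- The map `S ⊗[R] M → N` of a semilinear map. -/
noncomputable def bcMap : letI := g.toAlgebra; S ⊗[R] M →ₗ[S] N :=
  letI := g.toAlgebra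
  letI : Module R N := Module.compHom N g
  haveI : IsScalarTower R S N := IsScalarTower.of_algebraMap_smul fun _ _ => rfl
  LinearMap.liftBaseChange S ({ toFun := f, map_add' := f.map_add, map_smul' := f.map_smulₛₗ } : M →ₗ[R] N)

lemma bcMap_tmul (s : S) (m : M) :
    letI := g.toAlgebra
    bcMap g f (s ⊗ₜ m) = s • f m := by
  simp [bcMap]

lemma isBCAlong_iff_bijective : IsBCAlong g f ↔ Function.Bijective (bcMap g f) := by
  let _ := g.toAlgebra
  let _ : Module R N := Module.compHom N g
  haveI : IsScalarTower R S N := IsScalarTower.of_algebraMap_smul fun _ _ => rfl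
  constructor
  · intro h
    have e : (bcMap g f : S ⊗[R] M → N) = (IsBaseChange.equiv h : S ⊗[R] M → N) := by
      funext t
      induction t using TensorProduct.induction_on with
      | zero => rw [map_zero, map_zero]
      | tmul x m => rw [bcMap_tmul]; exact (IsBaseChange.equiv_tmul h x m).symm
      | add a b ha hb => rw [map_add, map_add, ha, hb]
    rw [e]
    exact (IsBaseChange.equiv h).bijective
  · intro h
    exact IsBaseChange.of_equiv (LinearEquiv.ofBijective (bcMap g f) h) fun m => by
      rw [LinearEquiv.ofBijective_apply, bcMap_tmul, one_smul]; rfl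

lemma isBCAlong_of_subsingleton [Subsingleton N]
    (h : letI := g.toAlgebra; Subsingleton (S ⊗[R] M)) : IsBCAlong g f := by
  let _ := g.toAlgebra
  rw [isBCAlong_iff_bijective]
  exact ⟨fun a b _ => h.elim a b, fun n => ⟨0, Subsingleton.elim _ _⟩⟩

lemma isBCAlong_of_subsingleton' [Subsingleton M] [Subsingleton N] : IsBCAlong g f := by
  let _ := g.toAlgebra
  exact isBCAlong_of_subsingleton g f ⟨fun a b => by
    have key : ∀ t : S ⊗[R] M, t = 0 := fun t => by
      induction t using TensorProduct.induction_on with
      | zero => rfl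
      | tmul x m => rw [Subsingleton.elim m 0, tmul_zero]
      | add u v hu hv => rw [hu, hv, add_zero]
    rw [key a, key b]⟩

/-- A bijective semilinear map along an epimorphism of rings is a base change. -/
lemma isBCAlong_of_bijective (hf : Function.Bijective f)
    (hepi : letI := g.toAlgebra; ∀ s : S, s ⊗ₜ[R] (1 : S) = 1 ⊗ₜ s) : IsBCAlong g f := by
  let _ := g.toAlgebra
  rw [isBCAlong_iff_bijective]
  refine ⟨?_, fun n => ?_⟩
  · have key : ∀ t : S ⊗[R] M, ∃ m, t = 1 ⊗ₜ m := fun t => by
      induction t using TensorProduct.induction_on with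
      | zero => exact ⟨0, (tmul_zero _ _).symm⟩
      | tmul s m =>
        let ψ : S →ₗ[R] M :=
          { toFun := fun b => Function.surjInv hf.2 (b • f m)
            map_add' := fun b c => hf.1 (by
              simp only [map_add, Function.surjInv_eq hf.2, add_smul])
            map_smul' := fun r b => hf.1 (by
              simp only [RingHom.id_apply, f.map_smulₛₗ, Function.surjInv_eq hf.2, Algebra.smul_def, mul_smul]
              rfl) }
        have := congrArg (LinearMap.lTensor S ψ) (hepi s)
        have h1 : ψ 1 = m := hf.1 (by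
          change f (Function.surjInv hf.2 ((1 : S) • f m)) = f m
          rw [Function.surjInv_eq hf.2, one_smul])
        simp only [LinearMap.lTensor_tmul, h1] at this
        exact ⟨ψ s, this⟩
      | add a b ha hb =>
        obtain ⟨m, rfl⟩ := ha
        obtain ⟨m', rfl⟩ := hb
        exact ⟨m + m', (tmul_add _ _ _).symm⟩
    intro a b h
    obtain ⟨m, rfl⟩ := key a
    obtain ⟨m', rfl⟩ := key b
    rw [bcMap_tmul, bcMap_tmul, one_smul, one_smul] at h
    rw [hf.1 h]
  · obtain ⟨m, rfl⟩ := hf.2 n
    exact ⟨1 ⊗ₜ m, by rw [bcMap_tmul, one_smul]⟩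

end BC

variable {X : RSpace.{u}}

lemma res_tmul_one_eq (hX : X.IsSchematic) {x y : X.pt} (h : x ≤ y) :
    letI := (X.res h).toAlgebra
    ∀ s : X.ring y, s ⊗ₜ[X.ring x] (1 : X.ring y) = 1 ⊗ₜ s := by
  let _ := (X.res h).toAlgebra
  exact fun s => RingHom.congr_fun (res_epi hX h Algebra.TensorProduct.includeLeftRingHom
    (Algebra.TensorProduct.includeRight : X.ring y →ₐ[X.ring x] X.ring y ⊗[X.ring x] X.ring y).toRingHom
    (RingHom.ext fun a => Algebra.TensorProduct.tmul_one_eq_one_tmul a)) s

instance (Ω : Type u) [CommRing Ω] : Subsingleton (RSpace.point Ω).pt :=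
  inferInstanceAs (Subsingleton PUnit)

lemma point_isFinSp (Ω : Type u) [Field Ω] : (RSpace.point Ω).IsFinSp :=
  ⟨fun _ => inferInstanceAs (IsNoetherianRing Ω), fun _ _ _ => RingHom.Flat.id Ω⟩

lemma subsingleton_H_point {Ω : Type u} [CommRing Ω] {U : Set (RSpace.point Ω).pt} {R : Type u}
    [CommRing R] (φ : Coef (RSpace.point Ω) U R) (n : ℕ) :
    Subsingleton (H φ (RSpace.point Ω).str (n + 1)) := by
  haveI : IsEmpty (Chain U (n + 1)) := ⟨fun σ => by
    have h : σ 0 = σ 1 := Subtype.ext (Subsingleton.elim _ _)
    exact zero_ne_one (σ.injective h)⟩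
  haveI : Subsingleton (Cochain φ (RSpace.point Ω).str (n + 1)) := ⟨fun a b => funext fun σ => isEmptyElim σ⟩
  exact (Submodule.mkQ_surjective _).subsingleton (α := ↥(cocycles φ (RSpace.point Ω).str (n + 1)))

lemma subsingleton_H_zero_of_empty {U : Set X.pt} (hU : U = ∅) {R : Type u} [CommRing R]
    (φ : Coef X U R) (M : OMod X) : Subsingleton (H φ M 0) :=
  ⟨fun a b => evH_injective (funext fun q => absurd q.2 (Set.eq_empty_iff_forall_notMem.mp hU q.1))⟩

/-- The point of the one-point space. -/
abbrev pu (Ω : Type u) [CommRing Ω] : (RSpace.point Ω).pt := PUnit.unit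

/-- A ring map to an algebraically closed field through a maximal pair is a geometric point. -/
theorem isSchematic_point (hX : X.IsSchematic) (hff : InterFF X) (Ω : Type u) [Field Ω] [IsAlgClosed Ω]
    (a : X.Pair) (ha : ∀ b : X.Pair, X.PairRel a b → b.1 ≤ a.1) (f : Hom (RSpace.point Ω) X)
    (hfn : f.fn (pu Ω) = a.1) (hker : ∀ h : a.1 ≤ f.fn (pu Ω),
      RingHom.ker ((f.app (pu Ω)).comp (X.res h)) = a.2.asIdeal) :
    f.IsSchematic := by
  refine ⟨point_isFinSp Ω, hX.1, fun n x x' hx y y' hy => ?_⟩
  cases n with
  | succ n =>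
    constructor
    · haveI := subsingleton_H_point (Coef.ofLE x (f.wedge x y) (f.wedge_subset_up x y)) n
      haveI := subsingleton_H_point (Coef.ofLE x' (f.wedge x' y) (f.wedge_subset_up x' y)) n
      exact isBCAlong_of_subsingleton' _ _
    · haveI := subsingleton_H_point (Coef.ofHom f y (f.wedge x y) (f.wedge_subset_pre x y)) n
      haveI := subsingleton_H_point (Coef.ofHom f y' (f.wedge x y') (f.wedge_subset_pre x y')) n
      exact isBCAlong_of_subsingleton' _ _
  | zero =>
    obtain rfl : x = x' := Subsingleton.elim _ _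
    constructor
    · refine isBCAlong_of_bijective _ _ ⟨fun m m' h => evH_injective (funext fun q => ?_), fun m => ?_⟩ ?_
      · have := congrFun (congrArg evH h) q
        exact ((evH_resH _ _ m q).symm.trans this).trans (evH_resH _ _ m' q)
      · obtain ⟨m', hm'⟩ := exists_evH_eq (φ := Coef.ofLE x (f.wedge x y) (f.wedge_subset_up x y))
          (M := (RSpace.point Ω).str) (fun q => evH m q) (evH_mem m)
        exact ⟨m', evH_injective (funext fun q => (evH_resH _ _ m' q).trans (congrFun hm' _))⟩
      · intro s
        let _ := ((RSpace.point Ω).res hx).toAlgebra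
        exact Algebra.TensorProduct.tmul_one_eq_one_tmul (A := (RSpace.point Ω).ring x)
          (B := (RSpace.point Ω).ring x) s
    · by_cases hy' : y' ≤ f.fn x
      · refine isBCAlong_of_bijective _ _ ⟨fun m m' h => evH_injective (funext fun q => ?_), fun m => ?_⟩
          (res_tmul_one_eq hX hy)
        · have hq : q.1 ∈ f.wedge x y' := ⟨q.2.1, by rw [Subsingleton.elim q.1 x]; exact hy'⟩
          have := congrFun (congrArg evH h) ⟨q.1, hq⟩
          exact ((evH_resH _ _ m ⟨q.1, hq⟩).symm.trans this).trans (evH_resH _ _ m' ⟨q.1, hq⟩)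
        · obtain ⟨m', hm'⟩ := exists_evH_eq (φ := Coef.ofHom f y (f.wedge x y) (f.wedge_subset_pre x y))
            (M := (RSpace.point Ω).str) (fun q => evH m ⟨q.1, q.2.1, by rw [Subsingleton.elim q.1 x]; exact hy'⟩)
            fun q q' h => evH_mem m _ _ h
          exact ⟨m', evH_injective (funext fun q => (evH_resH _ _ m' q).trans (congrFun hm' _))⟩
      · have hemp : f.wedge x y' = ∅ := Set.eq_empty_of_forall_notMem fun q hq =>
          hy' (by rw [← Subsingleton.elim q x]; exact hq.2)
        haveI := subsingleton_H_zero_of_empty hemp (Coef.ofHom f y' _ (f.wedge_subset_pre x y')) (RSpace.point Ω).str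
        by_cases hyb : y ≤ f.fn x
        · refine isBCAlong_of_subsingleton _ _ ?_
          let _ := (X.res hy).toAlgebra
          let _ : Algebra (X.ring y) Ω :=
            RingHom.toAlgebra ((f.app x).comp (X.res hyb) : X.ring y →+* Ω)
          let ev : H (Coef.ofHom f y (f.wedge x y) (f.wedge_subset_pre x y)) (RSpace.point Ω).str 0 →ₗ[X.ring y] Ω :=
            { toFun := fun m => evH m ⟨x, le_rfl, hyb⟩
              map_add' := fun m m' => congrFun (evH_add m m') _
              map_smul' := fun r m => evH_smul r m _ }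
          have hev : Function.Bijective ev := by
            refine ⟨fun m m' h => evH_injective (funext fun q => ?_), fun c => ?_⟩
            · obtain ⟨q, hq⟩ := q
              obtain rfl : q = x := Subsingleton.elim _ _
              exact h
            · obtain ⟨m, hm⟩ := exists_evH_eq (φ := Coef.ofHom f y (f.wedge x y) (f.wedge_subset_pre x y))
                (M := (RSpace.point Ω).str) (fun _ => c) fun _ _ _ => rfl
              exact ⟨m, congrFun hm _⟩
          suffices h0 : Subsingleton (X.ring y' ⊗[X.ring y] Ω) from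
            (LinearEquiv.lTensor (X.ring y') (LinearEquiv.ofBijective ev hev)).toEquiv.subsingleton
          by_contra hns
          haveI : Nontrivial (X.ring y' ⊗[X.ring y] Ω) := not_subsingleton_iff_nontrivial.mp hns
          obtain ⟨m, hm⟩ := Ideal.exists_maximal (X.ring y' ⊗[X.ring y] Ω)
          haveI := hm
          let P : PrimeSpectrum (X.ring y') :=
            PrimeSpectrum.comap Algebra.TensorProduct.includeLeftRingHom ⟨m, hm.isPrime⟩
          have hbase : a.1 ≤ f.fn x := le_of_eq (by rw [Subsingleton.elim x (pu Ω)]; exact hfn.symm)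
          have hPQ : PrimeSpectrum.comap (X.res hy) P =
              PrimeSpectrum.comap (X.res (hyb.trans (le_of_eq (by rw [Subsingleton.elim x (pu Ω), hfn])))) a.2 := by
            apply PrimeSpectrum.ext
            ext r
            simp only [P, PrimeSpectrum.comap_asIdeal, Ideal.mem_comap]
            rw [show Algebra.TensorProduct.includeLeftRingHom (X.res hy r) =
              (Algebra.TensorProduct.includeRight : Ω →ₐ[X.ring y] X.ring y' ⊗[X.ring y] Ω)
                (algebraMap (X.ring y) Ω r) from Algebra.TensorProduct.tmul_one_eq_one_tmul r]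
            obtain rfl : x = pu Ω := Subsingleton.elim _ _
            rw [← hker hbase, RingHom.mem_ker, RingHom.comp_apply, X.res_comp]
            change _ ↔ algebraMap (X.ring y) Ω r = 0
            constructor
            · intro h
              by_contra h0
              exact hm.ne_top (Ideal.eq_top_of_isUnit_mem _ h ((IsUnit.mk0 _ h0).map _))
            · intro h; rw [h, map_zero]; exact zero_mem _
          have := ha ⟨y', P⟩ (pairRel_symm (pairRel_of_comap_eq hX hff hy _ P a.2 hPQ))
          exact hy' (this.trans hbase)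
        · have hemp' : f.wedge x y = ∅ := Set.eq_empty_of_forall_notMem fun q hq =>
            hyb (by rw [← Subsingleton.elim q x]; exact hq.2)
          haveI := subsingleton_H_zero_of_empty hemp' (Coef.ofHom f y _ (f.wedge_subset_pre x y)) (RSpace.point Ω).str
          exact isBCAlong_of_subsingleton' _ _

theorem existsUnique_geomPt (hX : X.IsSchematic) (hff : InterFF X) (Ω : Type u) [Field Ω] [IsAlgClosed Ω]
    (a : X.Pair) (ha : ∀ b : X.Pair, X.PairRel a b → b.1 ≤ a.1) (φ : a.κ →+* Ω) :
    ∃! ξ : GeomPt X Ω, (⟨ξ.base, ξ.toField⟩ : Σ x : X.pt, (X.ring x →+* Ω)) =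
      ⟨a.1, φ.comp (algebraMap (X.ring a.1) a.κ)⟩ := by
  let f : Hom (RSpace.point Ω) X :=
    { fn := fun _ => a.1
      mono := monotone_const
      app := fun _ => φ.comp (algebraMap (X.ring a.1) a.κ)
      compat := fun _ b => congrArg (φ.comp (algebraMap (X.ring a.1) a.κ)) (X.res_self a.1 b).symm }
  have hf := isSchematic_point hX hff Ω a ha f rfl fun h => by
    ext r
    change φ (algebraMap (X.ring a.1) a.κ (X.res h r)) = 0 ↔ _
    rw [X.res_self, map_eq_zero_iff φ φ.injective, Ideal.algebraMap_residueField_eq_zero]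
  refine ⟨⟨f, hf⟩, rfl, ?_⟩
  rintro ⟨⟨gfn, gmono, gapp, gcompat⟩, hg⟩ h
  obtain ⟨b, rfl⟩ : ∃ b, gfn = fun _ => b := ⟨gfn PUnit.unit, funext fun _ => rfl⟩
  obtain ⟨c, rfl⟩ : ∃ c, gapp = fun _ => c := ⟨gapp PUnit.unit, funext fun _ => rfl⟩
  change (⟨b, c⟩ : Σ x : X.pt, (X.ring x →+* Ω)) = _ at h
  obtain ⟨h1, h2⟩ := Sigma.mk.inj_iff.mp h
  subst h1
  obtain rfl := eq_of_heq h2
  rfl

end Groth.Agent.SchFinH13
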