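import Mathlib
import Groth.Agent.Lib.SchFinH13.BC

/-!
Quasi-coherent algebras on a finite ringed poset: the universal property of restriction, and the
basic constructions (structure sheaf, zero algebra, products, quotients, tensor products).
-/

universe u

open TensorProduct CategoryTheory

namespace Groth.Agent.SchFinH13

open SchFin

set_option backward.isDefEq.respectTransparency false

variable {X : RSpace.{u}}

/-- The `X.ring p`-algebra structure on a `X.ring q`-algebra. -/
lemma qcoh_bcMap_bijective {A : Alg X} (hA : A.IsQcoh) {p q : X.pt} (h : p ≤ q) :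
    Function.Bijective (bcMap (X.res h) (A.toMod.res h)) :=
  (isBCAlong_iff_bijective _ _).mp (hA p q h)

/-- Restriction `R_q ⊗[R_p] A_p → A_q` as an algebra map. -/
noncomputable def resAlg (A : Alg X) {p q : X.pt} (h : p ≤ q) :
    letI := (X.res h).toAlgebra
    X.ring q ⊗[X.ring p] A.carrier p →ₐ[X.ring q] A.carrier q :=
  letI := (X.res h).toAlgebra
  letI : Algebra (X.ring p) (A.carrier q) := ((algebraMap (X.ring q) (A.carrier q)).comp (X.res h)).toAlgebra
  haveI : IsScalarTower (X.ring p) (X.ring q) (A.carrier q) := IsScalarTower.of_algebraMap_eq fun _ => rfl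
  Algebra.TensorProduct.lift (Algebra.ofId (X.ring q) (A.carrier q))
    ({ toRingHom := A.res h, commutes' := fun a => A.res_algebraMap h a } :
      A.carrier p →ₐ[X.ring p] A.carrier q)
    fun _ _ => Commute.all _ _

lemma resAlg_tmul (A : Alg X) {p q : X.pt} (h : p ≤ q) (r : X.ring q) (a : A.carrier p) :
    letI := (X.res h).toAlgebra
    resAlg A h (r ⊗ₜ a) = r • A.res h a := by
  let _ := (X.res h).toAlgebra
  rw [Algebra.smul_def]
  simp only [resAlg, Algebra.TensorProduct.lift_tmul]
  rfl

lemma resAlg_eq_bcMap (A : Alg X) {p q : X.pt} (h : p ≤ q) :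
    letI := (X.res h).toAlgebra
    ∀ t, resAlg A h t = bcMap (X.res h) (A.toMod.res h) t := by
  let _ := (X.res h).toAlgebra
  intro t
  induction t using TensorProduct.induction_on with
  | zero => simp
  | tmul x y => rw [resAlg_tmul, bcMap_tmul]; rfl
  | add u v hu hv => rw [map_add, map_add, hu, hv]

lemma resAlg_bijective {A : Alg X} (hA : A.IsQcoh) {p q : X.pt} (h : p ≤ q) :
    Function.Bijective (resAlg A h) := by
  have := qcoh_bcMap_bijective hA h
  rwa [← funext (resAlg_eq_bcMap A h)] at this

lemma isQcoh_of_resAlg {A : Alg X}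
    (hA : ∀ p q (h : p ≤ q), Function.Bijective (resAlg A h)) : A.IsQcoh := fun p q h => by
  refine (isBCAlong_iff_bijective _ _).mpr ?_
  have := hA p q h
  rwa [funext (resAlg_eq_bcMap A h)] at this

/-- A criterion for quasi-coherence by a left inverse and generation. -/
lemma isQcoh_of_inverse {A : Alg X}
    (hA : ∀ p q (h : p ≤ q), letI := (X.res h).toAlgebra
      ∃ σ : A.carrier q → X.ring q ⊗[X.ring p] A.carrier p,
        (∀ t, σ (resAlg A h t) = t) ∧ ∀ b, resAlg A h (σ b) = b) : A.IsQcoh :=
  isQcoh_of_resAlg fun p q h => by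
    obtain ⟨σ, h1, h2⟩ := hA p q h
    exact Function.bijective_iff_has_inverse.mpr ⟨σ, h1, h2⟩

/-- The restriction maps of a quasi-coherent algebra determine algebra maps out of it. -/
lemma algHom_ext_of_qcoh {A : Alg X} (hA : A.IsQcoh) {p q : X.pt} (h : p ≤ q) {T : Type u}
    [CommRing T] [Algebra (X.ring q) T] (g₁ g₂ : A.carrier q →ₐ[X.ring q] T)
    (hg : ∀ a, g₁ (A.res h a) = g₂ (A.res h a)) : g₁ = g₂ := by
  let _ := (X.res h).toAlgebra
  ext b
  obtain ⟨t, rfl⟩ := (resAlg_bijective hA h).2 b
  induction t using TensorProduct.induction_on with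
  | zero => rw [map_zero, map_zero, map_zero]
  | tmul x y => rw [resAlg_tmul, map_smul, map_smul, hg]
  | add u v hu hv => rw [map_add, map_add, map_add, hu, hv]

/-- The restriction maps of a quasi-coherent algebra allow to extend algebra maps. -/
lemma exists_extend_of_qcoh {A : Alg X} (hA : A.IsQcoh) {p q : X.pt} (h : p ≤ q) {T : Type u}
    [CommRing T] [Algebra (X.ring q) T] (ψ : A.carrier p →+* T)
    (hψ : ∀ r, ψ (algebraMap (X.ring p) (A.carrier p) r) = algebraMap (X.ring q) T (X.res h r)) :
    ∃ g : A.carrier q →ₐ[X.ring q] T, ∀ a, g (A.res h a) = ψ a := by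
  let _ := (X.res h).toAlgebra
  let _ : Algebra (X.ring p) T := ((algebraMap (X.ring q) T).comp (X.res h)).toAlgebra
  haveI : IsScalarTower (X.ring p) (X.ring q) T := IsScalarTower.of_algebraMap_eq fun _ => rfl
  let e := AlgEquiv.ofBijective (resAlg A h) (resAlg_bijective hA h)
  let L : X.ring q ⊗[X.ring p] A.carrier p →ₐ[X.ring q] T :=
    Algebra.TensorProduct.lift (Algebra.ofId (X.ring q) T)
      ({ toRingHom := ψ, commutes' := fun a => hψ a } : A.carrier p →ₐ[X.ring p] T)
      fun _ _ => Commute.all _ _
  refine ⟨L.comp e.symm.toAlgHom, fun a => ?_⟩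
  have ha : e.symm (A.res h a) = 1 ⊗ₜ a := by
    apply e.injective
    rw [AlgEquiv.apply_symm_apply]
    exact ((resAlg_tmul A h 1 a).trans (one_smul _ _)).symm
  change L (e.symm (A.res h a)) = ψ a
  rw [ha]
  simp [L]

/-! ### The structure sheaf and the zero algebra -/

lemma isQcoh_str (X : RSpace.{u}) : (Alg.str X).IsQcoh := by
  refine isQcoh_of_inverse fun p q h => ?_
  let _ := (X.res h).toAlgebra
  refine ⟨fun b => b ⊗ₜ (1 : X.ring p), fun t => ?_, fun b => ?_⟩
  · induction t using TensorProduct.induction_on with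
    | zero => rw [map_zero]; exact zero_tmul _ _
    | tmul r a =>
      rw [resAlg_tmul]
      change (r * X.res h a) ⊗ₜ[X.ring p] (1 : X.ring p) = r ⊗ₜ[X.ring p] (show X.ring p from a)
      rw [mul_comm]
      exact (TensorProduct.smul_tmul (show X.ring p from a) r (1 : X.ring p)).trans
        (congrArg (r ⊗ₜ[X.ring p] ·) (mul_one _))
    | add u v hu hv => rw [map_add]; exact (add_tmul _ _ _).trans (congrArg₂ (· + ·) hu hv)
  · rw [resAlg_tmul]
    change (show X.ring q from b) * X.res h 1 = b
    rw [map_one, mul_one]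

/-- The zero algebra. -/
@[reducible] def zeroAlg (X : RSpace.{u}) : Alg X where
  carrier p := X.ring p ⧸ (⊤ : Ideal (X.ring p))
  res {p q} h := Ideal.quotientMap ⊤ (X.res h) (fun _ _ => trivial)
  res_algebraMap _ _ := Subsingleton.elim _ _
  res_self _ _ := Subsingleton.elim _ _
  res_comp _ _ _ := Subsingleton.elim _ _

instance (p : X.pt) : Subsingleton ((zeroAlg X).carrier p) :=
  inferInstanceAs (Subsingleton (X.ring p ⧸ (⊤ : Ideal (X.ring p))))

lemma isQcoh_zeroAlg (X : RSpace.{u}) : (zeroAlg X).IsQcoh := fun p q h => by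
  haveI : Subsingleton ((zeroAlg X).toMod.carrier p) := inferInstanceAs (Subsingleton ((zeroAlg X).carrier p))
  haveI : Subsingleton ((zeroAlg X).toMod.carrier q) := inferInstanceAs (Subsingleton ((zeroAlg X).carrier q))
  exact isBCAlong_of_subsingleton' _ _

/-! ### Products -/

/-- The product of two algebras. -/
@[reducible] def prodAlg (A B : Alg X) : Alg X where
  carrier p := A.carrier p × B.carrier p
  res h := RingHom.prodMap (A.res h) (B.res h)
  res_algebraMap h a := Prod.ext (A.res_algebraMap h a) (B.res_algebraMap h a)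
  res_self p b := Prod.ext (A.res_self p b.1) (B.res_self p b.2)
  res_comp h h' b := Prod.ext (A.res_comp h h' b.1) (B.res_comp h h' b.2)

lemma isQcoh_prodAlg {A B : Alg X} (hA : A.IsQcoh) (hB : B.IsQcoh) : (prodAlg A B).IsQcoh := by
  refine isQcoh_of_inverse fun p q h => ?_
  let _ := (X.res h).toAlgebra
  let eA := LinearEquiv.ofBijective (resAlg A h).toLinearMap (resAlg_bijective hA h)
  let eB := LinearEquiv.ofBijective (resAlg B h).toLinearMap (resAlg_bijective hB h)
  let iA : X.ring q ⊗[X.ring p] A.carrier p →ₗ[X.ring q] X.ring q ⊗[X.ring p] (prodAlg A B).carrier p :=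
    TensorProduct.AlgebraTensorModule.lTensor (X.ring q) (X.ring q)
      (LinearMap.inl (X.ring p) (A.carrier p) (B.carrier p))
  let iB : X.ring q ⊗[X.ring p] B.carrier p →ₗ[X.ring q] X.ring q ⊗[X.ring p] (prodAlg A B).carrier p :=
    TensorProduct.AlgebraTensorModule.lTensor (X.ring q) (X.ring q)
      (LinearMap.inr (X.ring p) (A.carrier p) (B.carrier p))
  refine ⟨fun b => iA (eA.symm b.1) + iB (eB.symm b.2), fun t => ?_, fun b => ?_⟩
  · induction t using TensorProduct.induction_on with
    | zero => simp only [map_zero]; exact (congrArg₂ (· + ·) (by simp) (by simp)).trans (add_zero _)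
    | tmul r a =>
      rw [resAlg_tmul]
      have e1 : eA.symm (r • A.res h a.1) = r ⊗ₜ a.1 := eA.injective (by
        rw [LinearEquiv.apply_symm_apply]; exact (resAlg_tmul A h r a.1).symm)
      have e2 : eB.symm (r • B.res h a.2) = r ⊗ₜ a.2 := eB.injective (by
        rw [LinearEquiv.apply_symm_apply]; exact (resAlg_tmul B h r a.2).symm)
      change iA (eA.symm (r • A.res h a.1)) + iB (eB.symm (r • B.res h a.2)) = r ⊗ₜ a
      rw [e1, e2]
      change r ⊗ₜ[X.ring p] ((a.1, 0) : A.carrier p × B.carrier p) + r ⊗ₜ[X.ring p] ((0, a.2) : A.carrier p × B.carrier p) = _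
      rw [← tmul_add, Prod.mk_add_mk, add_zero, zero_add]
    | add u v hu hv =>
      rw [map_add]
      conv_rhs => rw [← hu, ← hv]
      simp only [Prod.fst_add, Prod.snd_add, map_add]
      abel
  · have key : ∀ (s : X.ring q ⊗[X.ring p] A.carrier p) (s' : X.ring q ⊗[X.ring p] B.carrier p),
        resAlg (prodAlg A B) h (iA s) = (resAlg A h s, 0) ∧
          resAlg (prodAlg A B) h (iB s') = (0, resAlg B h s') := by
      intro s s'
      constructor
      · induction s using TensorProduct.induction_on with
        | zero => simp only [map_zero]; exact Prod.zero_eq_mk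
        | tmul r a =>
          change resAlg (prodAlg A B) h (r ⊗ₜ ((a, 0) : A.carrier p × B.carrier p)) = _
          rw [resAlg_tmul, resAlg_tmul]
          exact Prod.ext rfl ((congrArg (r • ·) (map_zero (B.res h))).trans (smul_zero _))
        | add u v hu hv => simp only [map_add, hu, hv]; exact Prod.ext rfl (add_zero _)
      · induction s' using TensorProduct.induction_on with
        | zero => simp only [map_zero]; exact Prod.zero_eq_mk
        | tmul r a =>
          change resAlg (prodAlg A B) h (r ⊗ₜ ((0, a) : A.carrier p × B.carrier p)) = _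
          rw [resAlg_tmul, resAlg_tmul]
          exact Prod.ext ((congrArg (r • ·) (map_zero (A.res h))).trans (smul_zero _)) rfl
        | add u v hu hv => simp only [map_add, hu, hv]; exact Prod.ext (add_zero _) rfl
    simp only [map_add]
    rw [(key (eA.symm b.1) (eB.symm b.2)).1, (key (eA.symm b.1) (eB.symm b.2)).2]
    refine Prod.ext ?_ ?_
    · exact (congrArg₂ (· + ·) (eA.apply_symm_apply b.1) rfl).trans (add_zero _)
    · exact (congrArg₂ (· + ·) rfl (eB.apply_symm_apply b.2)).trans (zero_add _)

/-! ### Quotients -/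

/-- The quotient of an algebra by ideals stable under restriction. -/
@[reducible] def quotAlg (A : Alg X) (I : ∀ p, Ideal (A.carrier p))
    (hI : ∀ p q (h : p ≤ q), I p ≤ (I q).comap (A.res h)) : Alg X where
  carrier p := A.carrier p ⧸ I p
  res {p q} h := Ideal.quotientMap (I q) (A.res h) (hI p q h)
  res_algebraMap {p q} h a := congrArg (Ideal.Quotient.mk (I q)) (A.res_algebraMap h a)
  res_self p b := by
    obtain ⟨b, rfl⟩ := Ideal.Quotient.mk_surjective b
    exact congrArg (Ideal.Quotient.mk (I p)) (A.res_self p b)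
  res_comp {p q s} h h' b := by
    obtain ⟨b, rfl⟩ := Ideal.Quotient.mk_surjective b
    exact congrArg (Ideal.Quotient.mk (I s)) (A.res_comp h h' b)

/-- The projection to a quotient algebra. -/
def quotProj (A : Alg X) (I : ∀ p, Ideal (A.carrier p))
    (hI : ∀ p q (h : p ≤ q), I p ≤ (I q).comap (A.res h)) : A ⟶ quotAlg A I hI :=
  ⟨fun p => Ideal.Quotient.mkₐ (X.ring p) (I p), fun _ _ => rfl⟩

lemma isQcoh_quotAlg {A : Alg X} (hA : A.IsQcoh) (I : ∀ p, Ideal (A.carrier p))
    (hI : ∀ p q (h : p ≤ q), I p ≤ (I q).comap (A.res h))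
    (hgen : ∀ p q (h : p ≤ q), I q ≤ (I p).map (A.res h)) : (quotAlg A I hI).IsQcoh := by
  refine isQcoh_of_inverse fun p q h => ?_
  let _ := (X.res h).toAlgebra
  let T := X.ring q ⊗[X.ring p] (quotAlg A I hI).carrier p
  obtain ⟨g, hg⟩ := exists_extend_of_qcoh hA h (T := T)
    ((Algebra.TensorProduct.includeRight : (quotAlg A I hI).carrier p →ₐ[X.ring p] T).toRingHom.comp
      (Ideal.Quotient.mk (I p))) fun r =>
    (Algebra.TensorProduct.tmul_one_eq_one_tmul (A := X.ring q) (B := (quotAlg A I hI).carrier p) r).symm
  have hker : I q ≤ RingHom.ker g.toRingHom := (hgen p q h).trans (Ideal.map_le_iff_le_comap.mpr fun a ha => by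
    rw [Ideal.mem_comap, RingHom.mem_ker]
    change g (A.res h a) = 0
    rw [hg]
    change (1 : X.ring q) ⊗ₜ[X.ring p] (Ideal.Quotient.mk (I p) a : (quotAlg A I hI).carrier p) = 0
    rw [Ideal.Quotient.eq_zero_iff_mem.mpr ha]
    exact tmul_zero _ _)
  let σ : (quotAlg A I hI).carrier q →ₐ[X.ring q] T := Ideal.Quotient.liftₐ (I q) g fun a ha => hker ha
  refine ⟨σ, fun t => ?_, fun b => ?_⟩
  · induction t using TensorProduct.induction_on with
    | zero => rw [map_zero, map_zero]
    | tmul r a =>
      obtain ⟨a, rfl⟩ := Ideal.Quotient.mk_surjective a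
      rw [resAlg_tmul, map_smul]
      change r • g (A.res h a) = _
      rw [hg]
      change r • ((1 : X.ring q) ⊗ₜ[X.ring p] (Ideal.Quotient.mk (I p) a : (quotAlg A I hI).carrier p)) = _
      rw [TensorProduct.smul_tmul', smul_eq_mul, mul_one]
    | add u v hu hv => rw [map_add, map_add, hu, hv]
  · obtain ⟨b, rfl⟩ := Ideal.Quotient.mk_surjective b
    have : (resAlg (quotAlg A I hI) h).comp g = (quotProj A I hI).app q := by
      refine algHom_ext_of_qcoh hA h _ _ fun a => ?_
      rw [AlgHom.comp_apply, hg]
      exact ((resAlg_tmul (quotAlg A I hI) h 1 _).trans (one_smul _ _))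
    exact AlgHom.congr_fun this b

/-! ### Tensor products -/

section Tensor

variable {A B D : Alg X} (f : A ⟶ B) (g : A ⟶ D)

/-- The algebra structure on the value of the target of a morphism. -/
abbrev homAlgebra (p : X.pt) : Algebra (A.carrier p) (B.carrier p) := (f.app p).toRingHom.toAlgebra

/-- The values of the tensor product of two algebras over a third. -/
abbrev TAlg (p : X.pt) : Type u :=
  letI := homAlgebra f p
  letI := homAlgebra g p
  B.carrier p ⊗[A.carrier p] D.carrier p

/-- The structure of algebra on the tensor product. -/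
abbrev TAlgAlgebra (p : X.pt) : Algebra (X.ring p) (TAlg f g p) :=
  letI := homAlgebra f p
  letI := homAlgebra g p
  haveI : IsScalarTower (X.ring p) (A.carrier p) (B.carrier p) :=
    IsScalarTower.of_algebraMap_eq fun r => ((f.app p).commutes r).symm
  Algebra.TensorProduct.leftAlgebra

/-- Restriction of the tensor product. -/
noncomputable def tensorRes {p q : X.pt} (h : p ≤ q) : TAlg f g p →+* TAlg f g q :=
  letI := homAlgebra f p
  letI := homAlgebra g p
  letI := homAlgebra f q
  letI := homAlgebra g q
  letI : Algebra (A.carrier p) (TAlg f g q) :=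
    ((algebraMap (A.carrier q) (TAlg f g q)).comp (A.res h)).toAlgebra
  (Algebra.TensorProduct.lift
    ({ toRingHom := Algebra.TensorProduct.includeLeftRingHom.comp (B.res h)
       commutes' := fun a => congrArg (fun z => z ⊗ₜ[A.carrier q] (1 : D.carrier q)) (f.compat h a) } :
      B.carrier p →ₐ[A.carrier p] TAlg f g q)
    ({ toRingHom := (Algebra.TensorProduct.includeRight :
          D.carrier q →ₐ[A.carrier q] TAlg f g q).toRingHom.comp (D.res h)
       commutes' := fun a =>
        (congrArg (fun z => (1 : B.carrier q) ⊗ₜ[A.carrier q] z) (g.compat h a)).trans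
          (Algebra.TensorProduct.tmul_one_eq_one_tmul (A := B.carrier q) (B := D.carrier q) (A.res h a)).symm } :
      D.carrier p →ₐ[A.carrier p] TAlg f g q)
    fun _ _ => Commute.all _ _).toRingHom

lemma tensorRes_tmul {p q : X.pt} (h : p ≤ q) (x : B.carrier p) (y : D.carrier p) :
    letI := homAlgebra f p
    letI := homAlgebra g p
    letI := homAlgebra f q
    letI := homAlgebra g q
    tensorRes f g h (x ⊗ₜ[A.carrier p] y) = B.res h x ⊗ₜ[A.carrier q] D.res h y := by
  let _ := homAlgebra f p
  let _ := homAlgebra g p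
  let _ := homAlgebra f q
  let _ := homAlgebra g q
  let _ : Algebra (A.carrier p) (TAlg f g q) :=
    ((algebraMap (A.carrier q) (TAlg f g q)).comp (A.res h)).toAlgebra
  simp only [tensorRes, AlgHom.toRingHom_eq_coe, RingHom.coe_coe, Algebra.TensorProduct.lift_tmul]
  change (B.res h x ⊗ₜ[A.carrier q] (1 : D.carrier q)) * ((1 : B.carrier q) ⊗ₜ[A.carrier q] D.res h y) = _
  rw [Algebra.TensorProduct.tmul_mul_tmul, one_mul, mul_one]

/-- The tensor product of two algebras over a third. -/
@[reducible] noncomputable def tensorAlg : Alg X where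
  carrier p := TAlg f g p
  instRing p := by letI := homAlgebra f p; letI := homAlgebra g p; exact inferInstance
  instAlg p := TAlgAlgebra f g p
  res {p q} h := tensorRes f g h
  res_algebraMap {p q} h a := by
    let _ := homAlgebra f p
    let _ := homAlgebra g p
    let _ := homAlgebra f q
    let _ := homAlgebra g q
    refine (tensorRes_tmul f g h (algebraMap (X.ring p) (B.carrier p) a) 1).trans ?_
    rw [map_one, B.res_algebraMap]
    rfl
  res_self p b := by
    let _ := homAlgebra f p
    let _ := homAlgebra g p
    induction b using TensorProduct.induction_on with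
    | zero => exact map_zero _
    | tmul x y => rw [tensorRes_tmul, B.res_self, D.res_self]
    | add u v hu hv => rw [map_add, hu, hv]
  res_comp {p q s} h h' b := by
    let _ := homAlgebra f p
    let _ := homAlgebra g p
    let _ := homAlgebra f q
    let _ := homAlgebra g q
    let _ := homAlgebra f s
    let _ := homAlgebra g s
    induction b using TensorProduct.induction_on with
    | zero => simp only [map_zero]
    | tmul x y => rw [tensorRes_tmul, tensorRes_tmul, tensorRes_tmul, B.res_comp, D.res_comp]
    | add u v hu hv => simp only [map_add, hu, hv]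

/-- The first map into the tensor product. -/
noncomputable def tensorInl : B ⟶ tensorAlg f g where
  app p :=
    letI := homAlgebra f p
    letI := homAlgebra g p
    { toRingHom := Algebra.TensorProduct.includeLeftRingHom, commutes' := fun _ => rfl }
  compat {p q} h b := by
    let _ := homAlgebra f p
    let _ := homAlgebra g p
    let _ := homAlgebra f q
    let _ := homAlgebra g q
    change tensorRes f g h (b ⊗ₜ[A.carrier p] (1 : D.carrier p)) = B.res h b ⊗ₜ[A.carrier q] (1 : D.carrier q)
    rw [tensorRes_tmul, map_one]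

/-- The second map into the tensor product. -/
noncomputable def tensorInr : D ⟶ tensorAlg f g where
  app p :=
    letI := homAlgebra f p
    letI := homAlgebra g p
    { toRingHom := (Algebra.TensorProduct.includeRight : D.carrier p →ₐ[A.carrier p] TAlg f g p).toRingHom
      commutes' := fun r => by
        change (1 : B.carrier p) ⊗ₜ[A.carrier p] algebraMap (X.ring p) (D.carrier p) r =
          algebraMap (X.ring p) (B.carrier p) r ⊗ₜ[A.carrier p] (1 : D.carrier p)
        rw [← (f.app p).commutes r, ← (g.app p).commutes r]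
        exact (Algebra.TensorProduct.tmul_one_eq_one_tmul _).symm }
  compat {p q} h d := by
    let _ := homAlgebra f p
    let _ := homAlgebra g p
    let _ := homAlgebra f q
    let _ := homAlgebra g q
    change tensorRes f g h ((1 : B.carrier p) ⊗ₜ[A.carrier p] d) = (1 : B.carrier q) ⊗ₜ[A.carrier q] D.res h d
    rw [tensorRes_tmul, map_one]

lemma tensor_comm : f ≫ tensorInl f g = g ≫ tensorInr f g := by
  refine Alg.hom_ext _ _ fun p => AlgHom.ext fun a => ?_
  let _ := homAlgebra f p
  let _ := homAlgebra g p
  exact Algebra.TensorProduct.tmul_one_eq_one_tmul (A := B.carrier p) (B := D.carrier p) a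

/-- Maps out of a value of the tensor product. -/
lemma tensor_exists_lift (p : X.pt) {T : Type u} [CommRing T] [Algebra (X.ring p) T]
    (u : B.carrier p →ₐ[X.ring p] T) (v : D.carrier p →ₐ[X.ring p] T)
    (huv : ∀ a, u (f.app p a) = v (g.app p a)) :
    ∃ w : (tensorAlg f g).carrier p →ₐ[X.ring p] T,
      w.comp ((tensorInl f g).app p) = u ∧ w.comp ((tensorInr f g).app p) = v := by
  let _ := homAlgebra f p
  let _ := homAlgebra g p
  let _ : Algebra (A.carrier p) T := (u.toRingHom.comp (f.app p).toRingHom).toAlgebra
  let U : B.carrier p →ₐ[A.carrier p] T := { toRingHom := u.toRingHom, commutes' := fun _ => rfl }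
  let V : D.carrier p →ₐ[A.carrier p] T := { toRingHom := v.toRingHom, commutes' := fun a => (huv a).symm }
  let W := Algebra.TensorProduct.lift U V fun _ _ => Commute.all _ _
  refine ⟨{ toRingHom := W.toRingHom, commutes' := fun r => ?_ }, AlgHom.ext fun b => ?_, AlgHom.ext fun d => ?_⟩
  · change W (algebraMap (X.ring p) (B.carrier p) r ⊗ₜ[A.carrier p] (1 : D.carrier p)) = _
    simp only [W, Algebra.TensorProduct.lift_tmul, map_one, mul_one]
    exact u.commutes r
  · change W (b ⊗ₜ[A.carrier p] (1 : D.carrier p)) = u b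
    simp only [W, Algebra.TensorProduct.lift_tmul, map_one, mul_one]
    rfl
  · change W ((1 : B.carrier p) ⊗ₜ[A.carrier p] d) = v d
    simp only [W, Algebra.TensorProduct.lift_tmul, map_one, one_mul]
    rfl

lemma tensor_hom_ext (p : X.pt) {T : Type u} [CommRing T] [Algebra (X.ring p) T]
    (w w' : (tensorAlg f g).carrier p →ₐ[X.ring p] T)
    (h1 : w.comp ((tensorInl f g).app p) = w'.comp ((tensorInl f g).app p))
    (h2 : w.comp ((tensorInr f g).app p) = w'.comp ((tensorInr f g).app p)) : w = w' := by
  let _ := homAlgebra f p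
  let _ := homAlgebra g p
  ext t
  induction t using TensorProduct.induction_on with
  | zero => exact (map_zero w).trans (map_zero w').symm
  | tmul b d =>
    have e : (b ⊗ₜ[A.carrier p] d : (tensorAlg f g).carrier p) =
        (tensorInl f g).app p b * (tensorInr f g).app p d :=
      ((Algebra.TensorProduct.tmul_mul_tmul b (1 : B.carrier p) (1 : D.carrier p) d).trans (by rw [mul_one, one_mul])).symm
    exact (congrArg w e).trans ((map_mul w _ _).trans ((congrArg₂ (· * ·) (AlgHom.congr_fun h1 b)
      (AlgHom.congr_fun h2 d)).trans ((map_mul w' _ _).symm.trans (congrArg w' e).symm)))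
  | add x y hx hy => exact (map_add w x y).trans ((congrArg₂ (· + ·) hx hy).trans (map_add w' x y).symm)

lemma isQcoh_tensorAlg (hA : A.IsQcoh) (hB : B.IsQcoh) (hD : D.IsQcoh) : (tensorAlg f g).IsQcoh := by
  refine isQcoh_of_inverse fun p q h => ?_
  let _ := (X.res h).toAlgebra
  let C := tensorAlg f g
  let T := X.ring q ⊗[X.ring p] C.carrier p
  let i : C.carrier p →ₐ[X.ring p] T := Algebra.TensorProduct.includeRight
  have hi : ∀ r, i (algebraMap (X.ring p) (C.carrier p) r) = algebraMap (X.ring q) T (X.res h r) :=
    fun r => (Algebra.TensorProduct.tmul_one_eq_one_tmul (A := X.ring q) (B := C.carrier p) r).symm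
  obtain ⟨u, hu⟩ := exists_extend_of_qcoh hB h (T := T) (i.toRingHom.comp ((tensorInl f g).app p).toRingHom)
    fun r => (congrArg i (((tensorInl f g).app p).commutes r)).trans (hi r)
  obtain ⟨v, hv⟩ := exists_extend_of_qcoh hD h (T := T) (i.toRingHom.comp ((tensorInr f g).app p).toRingHom)
    fun r => (congrArg i (((tensorInr f g).app p).commutes r)).trans (hi r)
  have huv : u.comp (f.app q) = v.comp (g.app q) := algHom_ext_of_qcoh hA h _ _ fun a => by
    rw [AlgHom.comp_apply, AlgHom.comp_apply, ← f.compat h a, ← g.compat h a, hu, hv]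
    exact congrArg i (AlgHom.congr_fun (congrArg (fun z : A ⟶ C => z.app p) (tensor_comm f g)) a)
  obtain ⟨σ, hσ1, hσ2⟩ := tensor_exists_lift f g q u v (AlgHom.congr_fun huv)
  have h1 : ∀ c, σ (C.res h c) = i c := by
    let _ := homAlgebra f p
    let _ := homAlgebra g p
    intro c
    induction c using TensorProduct.induction_on with
    | zero => exact ((congrArg σ (map_zero (C.res h))).trans (map_zero σ)).trans (map_zero i).symm
    | tmul b d =>
      have e : (b ⊗ₜ[A.carrier p] d : C.carrier p) = (tensorInl f g).app p b * (tensorInr f g).app p d :=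
        ((Algebra.TensorProduct.tmul_mul_tmul b (1 : B.carrier p) (1 : D.carrier p) d).trans (by rw [mul_one, one_mul])).symm
      refine (congrArg (fun z => σ (C.res h z)) e).trans ?_
      refine ((congrArg σ (map_mul (C.res h) _ _)).trans (map_mul σ _ _)).trans ?_
      rw [(tensorInl f g).compat h b, (tensorInr f g).compat h d]
      refine ((congrArg₂ (· * ·) ((AlgHom.congr_fun hσ1 _).trans (hu b)) ((AlgHom.congr_fun hσ2 _).trans (hv d))).trans ?_)
      exact (map_mul i _ _).symm.trans (congrArg i e).symm
    | add x y hx hy =>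
      exact ((congrArg σ (map_add (C.res h) x y)).trans (map_add σ _ _)).trans
        ((congrArg₂ (· + ·) hx hy).trans (map_add i x y).symm)
  refine ⟨σ, fun t => ?_, fun b => ?_⟩
  · induction t using TensorProduct.induction_on with
    | zero => rw [map_zero, map_zero]
    | tmul r c =>
      rw [resAlg_tmul, map_smul, h1]
      change r • ((1 : X.ring q) ⊗ₜ[X.ring p] c) = _
      rw [TensorProduct.smul_tmul', smul_eq_mul, mul_one]
    | add x y hx hy => rw [map_add, map_add, hx, hy]
  · have hres : ∀ c, resAlg C h (i c) = C.res h c := fun c => (resAlg_tmul C h 1 c).trans (one_smul _ _)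
    have : (resAlg C h).comp σ = AlgHom.id (X.ring q) (C.carrier q) := by
      refine tensor_hom_ext f g q _ _ ?_ ?_
      · rw [AlgHom.comp_assoc, hσ1]
        refine algHom_ext_of_qcoh hB h _ _ fun b => ?_
        rw [AlgHom.comp_apply, hu]
        exact (hres _).trans ((tensorInl f g).compat h b)
      · rw [AlgHom.comp_assoc, hσ2]
        refine algHom_ext_of_qcoh hD h _ _ fun d => ?_
        rw [AlgHom.comp_apply, hv]
        exact (hres _).trans ((tensorInr f g).compat h d)
    exact AlgHom.congr_fun this b

end Tensor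

end Groth.Agent.SchFinH13
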