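import Mathlib
import Groth.Agent.Lib.SchFinH13.Qcoh

/-!
Affine up-closed sets of points: properties of quasi-coherent modules and algebras read on sections.
-/

universe u

open TensorProduct

namespace Groth.Agent.SchFinH13

open SchFin

set_option backward.isDefEq.respectTransparency false

section FF

variable {S : Type u} [CommRing S] {ι : Type u} (P : ι → Type u) [∀ i, CommRing (P i)]
  [∀ i, Algebra S (P i)] [Module.FaithfullyFlat S (∀ i, P i)] [Finite ι]
  {M N : Type u} [AddCommGroup M] [AddCommGroup N] [Module S M] [Module S N] (f : M →ₗ[S] N)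

omit [Module.FaithfullyFlat S (∀ i, P i)] [Finite ι] in
lemma eq_sum_single [Fintype ι] [DecidableEq ι] (t : (∀ i, P i) ⊗[S] M) :
    t = ∑ i, (LinearMap.single S P i).rTensor M ((LinearMap.proj i : (∀ i, P i) →ₗ[S] P i).rTensor M t) := by
  induction t using TensorProduct.induction_on with
  | zero => simp
  | tmul p m =>
    simp only [LinearMap.rTensor_tmul, LinearMap.proj_apply, ← sum_tmul, LinearMap.coe_single,
      Finset.univ_sum_single]
  | add a b ha hb => simp only [map_add, Finset.sum_add_distrib, ← ha, ← hb]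

lemma injective_of_forall_lTensor (h : ∀ i, Function.Injective (f.lTensor (P i))) : Function.Injective f := by
  classical
  cases nonempty_fintype ι
  rw [← Module.FaithfullyFlat.lTensor_injective_iff_injective S (∀ i, P i), injective_iff_map_eq_zero]
  intro t ht
  rw [eq_sum_single P t]
  refine Finset.sum_eq_zero fun i _ => ?_
  rw [(injective_iff_map_eq_zero _).mp (h i) ((LinearMap.proj i : (∀ i, P i) →ₗ[S] P i).rTensor M t) ?_, map_zero]
  rw [← LinearMap.comp_apply, LinearMap.lTensor_comp_rTensor, ← LinearMap.rTensor_comp_lTensor,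
    LinearMap.comp_apply, ht, map_zero]

lemma surjective_of_forall_lTensor (h : ∀ i, Function.Surjective (f.lTensor (P i))) : Function.Surjective f := by
  classical
  cases nonempty_fintype ι
  rw [← Module.FaithfullyFlat.lTensor_surjective_iff_surjective S (∀ i, P i)]
  intro t
  choose u hu using fun i => h i ((LinearMap.proj i : (∀ i, P i) →ₗ[S] P i).rTensor N t)
  refine ⟨∑ i, (LinearMap.single S P i).rTensor M (u i), ?_⟩
  rw [map_sum]
  refine (Finset.sum_congr rfl fun i _ => ?_).trans (eq_sum_single P t).symm
  rw [← LinearMap.comp_apply, LinearMap.lTensor_comp_rTensor, ← LinearMap.rTensor_comp_lTensor,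
    LinearMap.comp_apply, hu i]

omit [Finite ι] in
lemma flat_factor (i : ι) : Module.Flat S (P i) := by
  classical
  exact Module.Flat.of_retract (M := ∀ i, P i) (LinearMap.single S P i) (LinearMap.proj i)
    (LinearMap.ext fun x => by simp)

lemma subsingleton_of_forall_tensor (h : ∀ i, Subsingleton (P i ⊗[S] M)) : Subsingleton M := by
  have := injective_of_forall_lTensor P (0 : M →ₗ[S] M) fun i => fun a b _ => (h i).elim a b
  exact ⟨fun a b => this rfl⟩

lemma flat_of_forall_tensor (h : ∀ i, Module.Flat (P i) (P i ⊗[S] M)) : Module.Flat S M := by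
  rw [Module.Flat.iff_lTensor_preserves_injective_linearMap]
  intro A B _ _ _ _ g hg
  refine injective_of_forall_lTensor P (g.lTensor M) fun i => ?_
  haveI := flat_factor (S := S) P i
  haveI := h i
  haveI : Module.Flat S (P i ⊗[S] M) := Module.Flat.trans S (P i) _
  have hcomp : ((TensorProduct.assoc S (P i) M B).symm.toLinearMap ∘ₗ (g.lTensor M).lTensor (P i)) =
      g.lTensor (P i ⊗[S] M) ∘ₗ (TensorProduct.assoc S (P i) M A).symm.toLinearMap := by
    ext
    simp
  intro a b hab
  apply (TensorProduct.assoc S (P i) M A).symm.injective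
  apply Module.Flat.lTensor_preserves_injective_linearMap (M := P i ⊗[S] M) g hg
  exact (LinearMap.congr_fun hcomp a).symm.trans
    ((congrArg (TensorProduct.assoc S (P i) M B).symm hab).trans (LinearMap.congr_fun hcomp b))

lemma exists_finset_span (h : ∀ i, Module.Finite (P i) (P i ⊗[S] M)) : Module.Finite S M := by
  classical
  cases nonempty_fintype ι
  choose s hs using fun i => (h i).fg_top
  choose J hJ using fun (i : ι) (t : P i ⊗[S] M) => TensorProduct.exists_finset (R := S) t
  let gens : Finset M := Finset.univ.biUnion fun i => (s i).biUnion fun t => (J i t).image Prod.snd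
  let N' := Submodule.span S (gens : Set M)
  have hsurj : Function.Surjective N'.subtype := surjective_of_forall_lTensor P N'.subtype fun i => by
    have hr : Submodule.span (P i) ((s i : Set (P i ⊗[S] M))) ≤
        LinearMap.range (N'.subtype.baseChange (P i)) := by
      refine Submodule.span_le.mpr fun t ht => ?_
      rw [SetLike.mem_coe, hJ i t]
      refine sum_mem fun j hj => ?_
      have hm : j.2 ∈ N' := Submodule.subset_span (Finset.mem_biUnion.mpr ⟨i, Finset.mem_univ i,
        Finset.mem_biUnion.mpr ⟨t, ht, Finset.mem_image_of_mem _ hj⟩⟩)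
      exact ⟨j.1 ⊗ₜ ⟨j.2, hm⟩, by simp⟩
    rw [hs i] at hr
    intro t
    obtain ⟨u, hu⟩ := hr (Submodule.mem_top (x := t))
    exact ⟨u, hu⟩
  exact Module.finite_def.mpr ⟨gens, eq_top_iff.mpr fun m _ => by
    obtain ⟨x, rfl⟩ := hsurj m; exact x.2⟩

lemma isNoetherianRing_of_factors (h : ∀ i, IsNoetherianRing (P i)) : IsNoetherianRing S := by
  haveI := h
  haveI : IsNoetherianRing (∀ i, P i) := inferInstance
  rw [isNoetherianRing_iff, isNoetherian_iff']
  have hmono : StrictMono (Ideal.map (algebraMap S (∀ i, P i))) := fun I J hIJ =>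
    lt_of_le_of_ne (Ideal.map_mono hIJ.le) fun he => hIJ.ne (by
      rw [← Ideal.comap_map_eq_self_of_faithfullyFlat (B := ∀ i, P i) I, he,
        Ideal.comap_map_eq_self_of_faithfullyFlat])
  exact hmono.wellFoundedGT

end FF

section Sections

variable {X : RSpace.{u}} (U : Set X.pt)

/-- Evaluation at a point makes the ring of a point an algebra over the sections. -/
@[reducible] def evalAlgebra (q : U) : Algebra (X.sectRing U) (X.ring q.1) := (X.evalRing U q).toAlgebra

lemma isBCAlong_transfer {R R' T M M' N : Type u} [CommRing R] [CommRing R'] [CommRing T]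
    [AddCommGroup M] [AddCommGroup M'] [AddCommGroup N] [Module R M] [Module R' M'] [Module T N]
    (σ : R ≃+* R') (g : R →+* T) (g' : R' →+* T) (hg : ∀ r, g' (σ r) = g r)
    (ε : M ≃+ M') (hε : ∀ r m, ε (r • m) = σ r • ε m)
    (f : M →ₛₗ[g] N) (f' : M' →ₛₗ[g'] N) (hf : ∀ m, f' (ε m) = f m)
    (h : IsBCAlong g' f') : IsBCAlong g f := by
  rw [isBCAlong_iff_bijective] at h ⊢
  let _ := g.toAlgebra
  let _ := g'.toAlgebra
  let _ : Module R M' := Module.compHom M' σ.toRingHom
  have hsmul : ∀ (t : T) (r : R), (r • t : T) = σ r • t := fun t r => by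
    rw [Algebra.smul_def, Algebra.smul_def]
    exact congrArg (· * t) (hg r).symm
  let α : T ⊗[R] M →+ T ⊗[R'] M' := TensorProduct.liftAddHom
    { toFun := fun t => ((TensorProduct.mk R' T M' t).toAddMonoidHom).comp ε.toAddMonoidHom
      map_zero' := AddMonoidHom.ext fun m => zero_tmul _ (ε m)
      map_add' := fun a b => AddMonoidHom.ext fun m => add_tmul a b (ε m) }
    fun r t m => by
      change (r • t) ⊗ₜ[R'] ε m = t ⊗ₜ[R'] ε (r • m)
      rw [hε, hsmul, smul_tmul]
  let β : T ⊗[R'] M' →+ T ⊗[R] M := TensorProduct.liftAddHom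
    { toFun := fun t => ((TensorProduct.mk R T M t).toAddMonoidHom).comp ε.symm.toAddMonoidHom
      map_zero' := AddMonoidHom.ext fun m => zero_tmul _ (ε.symm m)
      map_add' := fun a b => AddMonoidHom.ext fun m => add_tmul a b (ε.symm m) }
    fun r t m => by
      obtain ⟨r, rfl⟩ := σ.surjective r
      obtain ⟨m, rfl⟩ := ε.surjective m
      change (σ r • t) ⊗ₜ[R] ε.symm (ε m) = t ⊗ₜ[R] ε.symm (σ r • ε m)
      rw [← hε, ε.symm_apply_apply, ε.symm_apply_apply, ← hsmul, smul_tmul]
  have hcomp : ∀ t, bcMap g' f' (α t) = bcMap g f t := fun t => by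
    induction t using TensorProduct.induction_on with
    | zero => simp only [map_zero]
    | tmul x m =>
      change bcMap g' f' (x ⊗ₜ[R'] ε m) = _
      rw [bcMap_tmul, bcMap_tmul, hf]
    | add a b ha hb => simp only [map_add, ha, hb]
  have h1 : ∀ t, β (α t) = t := fun t => by
    induction t using TensorProduct.induction_on with
    | zero => simp only [map_zero]
    | tmul x m => exact congrArg (x ⊗ₜ[R] ·) (ε.symm_apply_apply m)
    | add a b ha hb => simp only [map_add, ha, hb]
  have h2 : ∀ t, α (β t) = t := fun t => by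
    induction t using TensorProduct.induction_on with
    | zero => simp only [map_zero]
    | tmul x m => exact congrArg (x ⊗ₜ[R'] ·) (ε.apply_symm_apply m)
    | add a b ha hb => simp only [map_add, ha, hb]
  rw [show (bcMap g f : T ⊗[R] M → N) = bcMap g' f' ∘ α from funext fun t => (hcomp t).symm]
  exact h.comp (Function.bijective_iff_has_inverse.mpr ⟨β, h1, h2⟩)

/-- On an affine set of points evaluation exhibits the values as base changes of the sections. -/
theorem isBCAlong_evalMod (hUa : (X.restrict U).IsAffine) (M : OMod X) (hM : M.IsQcoh) (q : U) :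
    IsBCAlong (X.evalRing U q) (M.evalMod U q) := by
  have hq : (M.restrict U).IsQcoh := fun p p' h => hM p.1 p'.1 h
  let σ : X.sectRing U ≃+* (X.restrict U).sectRing Set.univ :=
    { toFun := fun s => ⟨fun p => s.1 p.1, fun p p' h => s.2 p.1 p'.1 h⟩
      invFun := fun s => ⟨fun p => s.1 ⟨p, trivial⟩, fun p p' h => s.2 ⟨p, trivial⟩ ⟨p', trivial⟩ h⟩
      left_inv := fun _ => rfl
      right_inv := fun _ => rfl
      map_mul' := fun _ _ => rfl
      map_add' := fun _ _ => rfl }
  let ε : M.sect U ≃+ (M.restrict U).sect Set.univ :=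
    { toFun := fun s => ⟨fun p => s.1 p.1, fun p p' h => s.2 p.1 p'.1 h⟩
      invFun := fun s => ⟨fun p => s.1 ⟨p, trivial⟩, fun p p' h => s.2 ⟨p, trivial⟩ ⟨p', trivial⟩ h⟩
      left_inv := fun _ => rfl
      right_inv := fun _ => rfl
      map_add' := fun _ _ => rfl }
  exact isBCAlong_transfer σ (X.evalRing U q) ((X.restrict U).evalRing Set.univ ⟨q, trivial⟩) (fun _ => rfl)
    ε (fun _ _ => rfl) (M.evalMod U q) ((M.restrict U).evalMod Set.univ ⟨q, trivial⟩) (fun _ => rfl)
    (hUa.2.2.1 (M.restrict U) hq q)

theorem isBCAlong_resSect (x : X.pt) (hU : U ⊆ X.up x) (hUa : (X.restrict U).IsAffine)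
    (hff : Module.FaithfullyFlat (X.sectRing U) ((q : ↥U) → X.ring q.1)) (M : OMod X) (hM : M.IsQcoh) :
    IsBCAlong (X.resSect x U hU) (M.resSect x U hU) := by
  rw [isBCAlong_iff_bijective]
  let _ := (X.resSect x U hU).toAlgebra
  let _ : ∀ q : U, Algebra (X.sectRing U) (X.ring q.1) := fun q => evalAlgebra U q
  let _ : ∀ q : U, Algebra (X.ring x) (X.ring q.1) := fun q => (X.res (hU q.2)).toAlgebra
  haveI : ∀ q : U, IsScalarTower (X.ring x) (X.sectRing U) (X.ring q.1) := fun q =>
    IsScalarTower.of_algebraMap_eq fun r => rfl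
  haveI : Module.FaithfullyFlat (X.sectRing U) (∀ q : U, X.ring q.1) := hff
  let c := bcMap (X.resSect x U hU) (M.resSect x U hU)
  have key : ∀ q : U, Function.Bijective (c.lTensor (X.ring q.1)) := fun q => by
    have hb := (isBCAlong_iff_bijective _ _).mp (isBCAlong_evalMod U hUa M hM q)
    have hr := (isBCAlong_iff_bijective _ _).mp (hM x q.1 (hU q.2))
    let e := TensorProduct.AlgebraTensorModule.cancelBaseChange (X.ring x) (X.sectRing U) (X.ring q.1)
      (X.ring q.1) (M.carrier x)
    have hcomp : ∀ t, bcMap (X.evalRing U q) (M.evalMod U q) (c.lTensor (X.ring q.1) t) =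
        bcMap (X.res (hU q.2)) (M.res (hU q.2)) (e t) := fun t => by
      induction t using TensorProduct.induction_on with
      | zero => simp only [map_zero]
      | tmul r u =>
        induction u using TensorProduct.induction_on with
        | zero => simp only [tmul_zero, map_zero]
        | tmul s m =>
          rw [LinearMap.lTensor_tmul, TensorProduct.AlgebraTensorModule.cancelBaseChange_tmul, bcMap_tmul,
            bcMap_tmul, bcMap_tmul, Algebra.smul_def, mul_comm, mul_smul]
          rfl
        | add a b ha hb => simp only [tmul_add, map_add, ha, hb]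
      | add a b ha hb => simp only [map_add, ha, hb]
    have : Function.Bijective (bcMap (X.evalRing U q) (M.evalMod U q) ∘ c.lTensor (X.ring q.1)) := by
      rw [show bcMap (X.evalRing U q) (M.evalMod U q) ∘ c.lTensor (X.ring q.1) = _ from funext hcomp]
      exact hr.comp e.bijective
    exact (Function.Bijective.of_comp_iff' hb _).mp this
  exact ⟨injective_of_forall_lTensor (fun q : U => X.ring q.1) c fun q => (key q).1,
    surjective_of_forall_lTensor (fun q : U => X.ring q.1) c fun q => (key q).2⟩

section Alg

variable (A : Alg X)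

/-- The counit of the sections of an algebra, an isomorphism of algebras on an affine set. -/
theorem exists_counitAlg (hA : A.IsQcoh) (hUa : (X.restrict U).IsAffine) (q : U) :
    letI := evalAlgebra U q
    letI := (A.sectMap U).toAlgebra
    Nonempty (X.ring q.1 ⊗[X.sectRing U] A.total.sectRing U ≃ₐ[X.ring q.1] A.carrier q.1) := by
  let _ := evalAlgebra U q
  let _ := (A.sectMap U).toAlgebra
  let _ : Algebra (X.sectRing U) (A.carrier q.1) :=
    ((algebraMap (X.ring q.1) (A.carrier q.1)).comp (X.evalRing U q)).toAlgebra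
  haveI : IsScalarTower (X.sectRing U) (X.ring q.1) (A.carrier q.1) :=
    IsScalarTower.of_algebraMap_eq fun _ => rfl
  let ev : A.total.sectRing U →ₐ[X.sectRing U] A.carrier q.1 :=
    { toRingHom := A.total.evalRing U q, commutes' := fun _ => rfl }
  let ψ : X.ring q.1 ⊗[X.sectRing U] A.total.sectRing U →ₐ[X.ring q.1] A.carrier q.1 :=
    Algebra.TensorProduct.lift (Algebra.ofId _ _) ev fun _ _ => Commute.all _ _
  have h := (isBCAlong_iff_bijective _ _).mp (isBCAlong_evalMod U hUa A.toMod hA q)
  let j : A.total.sectRing U ≃ₗ[X.sectRing U] A.toMod.sect U :=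
    { toFun := fun b => ⟨b.1, b.2⟩
      invFun := fun b => ⟨b.1, b.2⟩
      left_inv := fun _ => rfl
      right_inv := fun _ => rfl
      map_add' := fun _ _ => rfl
      map_smul' := fun s b => Subtype.ext (funext fun p => (Algebra.smul_def (A := A.carrier p.1) (s.1 p) (b.1 p)).symm) }
  have hcomp : ∀ t, ψ t = bcMap (X.evalRing U q) (A.toMod.evalMod U q) (j.toLinearMap.lTensor _ t) := fun t => by
    induction t using TensorProduct.induction_on with
    | zero => simp only [map_zero]
    | tmul r b =>
      rw [Algebra.TensorProduct.lift_tmul, LinearMap.lTensor_tmul, bcMap_tmul]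
      exact (Algebra.smul_def r _).symm
    | add a b ha hb => simp only [map_add, ha, hb]
  refine ⟨AlgEquiv.ofBijective ψ ?_⟩
  rw [show (ψ : _ → A.carrier q.1) = bcMap (X.evalRing U q) (A.toMod.evalMod U q) ∘ j.toLinearMap.lTensor _ from
    funext hcomp]
  exact h.comp (LinearEquiv.lTensor (X.ring q.1) j).bijective

variable (hA : A.IsQcoh) (hUa : (X.restrict U).IsAffine)
  (hφ : Module.FaithfullyFlat (X.sectRing U) ((q : ↥U) → X.ring q.1))
include hA hUa hφ

theorem flat_iff : (∀ q : X.pt, q ∈ U → Module.Flat (X.ring q) (A.carrier q)) ↔ (A.sectMap U).Flat := by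
  let _ := (A.sectMap U).toAlgebra
  let _ : ∀ q : U, Algebra (X.sectRing U) (X.ring q.1) := fun q => evalAlgebra U q
  haveI : Module.FaithfullyFlat (X.sectRing U) (∀ q : U, X.ring q.1) := hφ
  change _ ↔ Module.Flat (X.sectRing U) (A.total.sectRing U)
  constructor
  · intro h
    refine flat_of_forall_tensor (fun q : U => X.ring q.1) fun q => ?_
    haveI := h q.1 q.2
    obtain ⟨e⟩ := exists_counitAlg U A hA hUa q
    exact Module.Flat.of_linearEquiv e.toLinearEquiv
  · intro h q hq
    obtain ⟨e⟩ := exists_counitAlg U A hA hUa ⟨q, hq⟩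
    exact Module.Flat.of_linearEquiv e.symm.toLinearEquiv

theorem finite_iff : (∀ q : X.pt, q ∈ U → Module.Finite (X.ring q) (A.carrier q)) ↔ (A.sectMap U).Finite := by
  let _ := (A.sectMap U).toAlgebra
  let _ : ∀ q : U, Algebra (X.sectRing U) (X.ring q.1) := fun q => evalAlgebra U q
  haveI : Module.FaithfullyFlat (X.sectRing U) (∀ q : U, X.ring q.1) := hφ
  change _ ↔ Module.Finite (X.sectRing U) (A.total.sectRing U)
  constructor
  · intro h
    refine exists_finset_span (fun q : U => X.ring q.1) fun q => ?_
    haveI := h q.1 q.2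
    obtain ⟨e⟩ := exists_counitAlg U A hA hUa q
    exact Module.Finite.equiv e.symm.toLinearEquiv
  · intro h q hq
    obtain ⟨e⟩ := exists_counitAlg U A hA hUa ⟨q, hq⟩
    exact Module.Finite.equiv e.toLinearEquiv

theorem faithfullyFlat_iff : (∀ q : X.pt, q ∈ U → Module.FaithfullyFlat (X.ring q) (A.carrier q)) ↔
    (A.sectMap U).FaithfullyFlat := by
  have hflat := flat_iff U A hA hUa hφ
  let _ := (A.sectMap U).toAlgebra
  let _ : ∀ q : U, Algebra (X.sectRing U) (X.ring q.1) := fun q => evalAlgebra U q
  haveI : Module.FaithfullyFlat (X.sectRing U) (∀ q : U, X.ring q.1) := hφ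
  change _ ↔ Module.FaithfullyFlat (X.sectRing U) (A.total.sectRing U)
  constructor
  · intro h
    rw [Module.FaithfullyFlat.iff_flat_and_lTensor_reflects_triviality]
    refine ⟨hflat.mp fun q hq => (h q hq).toFlat, fun N _ _ hN => ?_⟩
    refine subsingleton_of_forall_tensor (S := X.sectRing U) (fun q : U => X.ring q.1) fun q => ?_
    haveI := h q.1 q.2
    obtain ⟨e⟩ := exists_counitAlg U A hA hUa q
    let S := X.sectRing U
    let B := A.total.sectRing U
    haveI : Subsingleton (X.ring q.1 ⊗[S] (B ⊗[S] N)) := by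
      haveI := hN
      exact ⟨fun a b => by
        have key : ∀ t : X.ring q.1 ⊗[S] (B ⊗[S] N), t = 0 := fun t => by
          induction t using TensorProduct.induction_on with
          | zero => rfl
          | tmul x y => rw [Subsingleton.elim y 0, tmul_zero]
          | add u v hu hv => rw [hu, hv, add_zero]
        rw [key a, key b]⟩
    let E : A.carrier q.1 ⊗[X.ring q.1] (X.ring q.1 ⊗[S] N) ≃ₗ[X.ring q.1] X.ring q.1 ⊗[S] (B ⊗[S] N) :=
      TensorProduct.AlgebraTensorModule.congr e.symm.toLinearEquiv (LinearEquiv.refl _ _) ≪≫ₗ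
        TensorProduct.AlgebraTensorModule.cancelBaseChange S (X.ring q.1) (X.ring q.1) _ N ≪≫ₗ
        TensorProduct.AlgebraTensorModule.assoc S S (X.ring q.1) (X.ring q.1) B N
    haveI := E.subsingleton
    exact Module.FaithfullyFlat.lTensor_reflects_triviality (X.ring q.1) (A.carrier q.1) _
  · intro h q hq
    obtain ⟨e⟩ := exists_counitAlg U A hA hUa ⟨q, hq⟩
    exact Module.FaithfullyFlat.of_linearEquiv _ _ e.symm.toLinearEquiv

theorem etale_iff (hN : ∀ p : X.pt, IsNoetherianRing (X.ring p)) :
    (∀ q : X.pt, q ∈ U → Algebra.Etale (X.ring q) (A.carrier q)) ↔ (A.sectMap U).Etale := by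
  have hflat := flat_iff U A hA hUa hφ
  let _ := (A.sectMap U).toAlgebra
  let _ : ∀ q : U, Algebra (X.sectRing U) (X.ring q.1) := fun q => evalAlgebra U q
  haveI : Module.FaithfullyFlat (X.sectRing U) (∀ q : U, X.ring q.1) := hφ
  let S := X.sectRing U
  let B := A.total.sectRing U
  change _ ↔ Algebra.Etale S B
  constructor
  · intro h
    haveI : Module.Flat S B := hflat.mp fun q hq => by haveI := h q hq; infer_instance
    haveI : Algebra.FormallyUnramified S B := by
      constructor
      refine subsingleton_of_forall_tensor (S := S) (fun q : U => X.ring q.1) fun q => ?_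
      haveI := h q.1 q.2
      obtain ⟨e⟩ := exists_counitAlg U A hA hUa q
      haveI : Algebra.FormallyUnramified (X.ring q.1) (X.ring q.1 ⊗[S] B) :=
        Algebra.FormallyUnramified.of_equiv e.symm
      let _ : Algebra B (X.ring q.1 ⊗[S] B) := Algebra.TensorProduct.rightAlgebra
      exact (KaehlerDifferential.tensorKaehlerEquivBase S (X.ring q.1) B (X.ring q.1 ⊗[S] B)).subsingleton
    haveI : IsNoetherianRing S := isNoetherianRing_of_factors (fun q : U => X.ring q.1) fun q => hN q.1
    haveI : Algebra.FiniteType S B := by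
      classical
      cases nonempty_fintype U
      choose s hs using fun q : U => (show Algebra.FiniteType (X.ring q.1) (X.ring q.1 ⊗[S] B) by
        haveI := h q.1 q.2
        obtain ⟨e⟩ := exists_counitAlg U A hA hUa q
        exact Algebra.FiniteType.equiv inferInstance e.symm).out
      choose J hJ using fun (q : U) (t : X.ring q.1 ⊗[S] B) => TensorProduct.exists_finset (R := S) t
      let gens : Finset B := Finset.univ.biUnion fun q => (s q).biUnion fun t => (J q t).image Prod.snd
      let B' := Algebra.adjoin S (gens : Set B)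
      refine ⟨⟨gens, eq_top_iff.mpr fun b _ => ?_⟩⟩
      have hsurj : Function.Surjective B'.val.toLinearMap :=
        surjective_of_forall_lTensor (fun q : U => X.ring q.1) B'.val.toLinearMap fun q => by
          let Φ : X.ring q.1 ⊗[S] B' →ₐ[X.ring q.1] X.ring q.1 ⊗[S] B :=
            Algebra.TensorProduct.map (AlgHom.id _ _) B'.val
          have hle : Algebra.adjoin (X.ring q.1) (s q : Set (X.ring q.1 ⊗[S] B)) ≤ Φ.range := by
            refine Algebra.adjoin_le fun t ht => ?_
            rw [SetLike.mem_coe, hJ q t]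
            refine sum_mem fun j hj => ?_
            have hm : j.2 ∈ B' := Algebra.subset_adjoin (Finset.mem_biUnion.mpr ⟨q, Finset.mem_univ q,
              Finset.mem_biUnion.mpr ⟨t, ht, Finset.mem_image_of_mem _ hj⟩⟩)
            exact ⟨j.1 ⊗ₜ ⟨j.2, hm⟩, by simp [Φ]⟩
          rw [hs q] at hle
          intro t
          obtain ⟨u, hu⟩ := hle (Algebra.mem_top (x := t))
          refine ⟨u, (?_ : B'.val.toLinearMap.lTensor _ u = Φ u).trans hu⟩
          clear hu
          induction u using TensorProduct.induction_on with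
          | zero => simp only [map_zero]
          | tmul x y => rfl
          | add a b ha hb => simp only [map_add, ha, hb]
      obtain ⟨x, rfl⟩ := hsurj b
      exact x.2
    haveI : Algebra.FinitePresentation S B := Algebra.FinitePresentation.of_finiteType.mp inferInstance
    exact Algebra.Etale.of_formallyUnramified_of_flat
  · intro h q hq
    obtain ⟨e⟩ := exists_counitAlg U A hA hUa ⟨q, hq⟩
    exact Algebra.Etale.of_equiv e

end Alg

end Sections

end Groth.Agent.SchFinH13
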