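import Mathlib
import Groth.Agent.Lib.SchFinH13.Qcoh
import Groth.Agent.Lib.SchFinH13.Alg0

/-!
The category of étale covers of a finite ringed poset: limits and colimits, images, complements,
monomorphisms, isomorphisms.
-/

universe u

open TensorProduct CategoryTheory CategoryTheory.Limits

namespace Groth.Agent.SchFinH13

open SchFin

set_option backward.isDefEq.respectTransparency false

variable {X : RSpace.{u}}

lemma isEtCover_str (X : RSpace.{u}) : (Alg.str X).IsEtCover :=
  ⟨isQcoh_str X, fun p => ⟨inferInstanceAs (Module.Finite (X.ring p) (X.ring p)),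
    inferInstanceAs (Algebra.Etale (X.ring p) (X.ring p))⟩⟩

/-- The structure sheaf as an étale cover. -/
def strE (X : RSpace.{u}) : FEt X := ⟨Alg.str X, isEtCover_str X⟩

lemma isEtCover_zeroAlg (X : RSpace.{u}) : (zeroAlg X).IsEtCover :=
  ⟨isQcoh_zeroAlg X, fun p => ⟨inferInstanceAs (Module.Finite (X.ring p) (X.ring p ⧸ _)),
    have h : (⊤ : Ideal (X.ring p)) = Ideal.span {1} := Ideal.span_singleton_one.symm
    show Algebra.Etale (X.ring p) (X.ring p ⧸ (⊤ : Ideal (X.ring p))) by
      rw [h]; exact etale_quotient_of_isIdempotentElem (A := X.ring p) IsIdempotentElem.one⟩⟩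

/-- The zero algebra as an étale cover. -/
def zeroE (X : RSpace.{u}) : FEt X := ⟨zeroAlg X, isEtCover_zeroAlg X⟩

lemma isEtCover_prodAlg {A B : Alg X} (hA : A.IsEtCover) (hB : B.IsEtCover) : (prodAlg A B).IsEtCover :=
  ⟨isQcoh_prodAlg hA.1 hB.1, fun p => by
    obtain ⟨_, _⟩ := hA.2 p
    obtain ⟨_, _⟩ := hB.2 p
    exact ⟨inferInstanceAs (Module.Finite (X.ring p) (A.carrier p × B.carrier p)), etale_prod⟩⟩

/-- The product of two étale covers. -/
def prodE (A B : FEt X) : FEt X := ⟨prodAlg A.obj B.obj, isEtCover_prodAlg A.property B.property⟩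

lemma isEtCover_tensorAlg {A B D : Alg X} (f : A ⟶ B) (g : A ⟶ D) (hA : A.IsEtCover)
    (hB : B.IsEtCover) (hD : D.IsEtCover) : (tensorAlg f g).IsEtCover :=
  ⟨isQcoh_tensorAlg f g hA.1 hB.1 hD.1, fun p => by
    obtain ⟨_, _⟩ := hA.2 p
    obtain ⟨_, _⟩ := hB.2 p
    obtain ⟨_, _⟩ := hD.2 p
    let _ := homAlgebra f p
    let _ := homAlgebra g p
    haveI : IsScalarTower (X.ring p) (A.carrier p) (B.carrier p) :=
      IsScalarTower.of_algebraMap_eq fun r => ((f.app p).commutes r).symm
    haveI : IsScalarTower (X.ring p) (A.carrier p) (D.carrier p) :=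
      IsScalarTower.of_algebraMap_eq fun r => ((g.app p).commutes r).symm
    haveI : Algebra.Etale (A.carrier p) (D.carrier p) := Algebra.Etale.of_restrictScalars (X.ring p) _ _
    haveI : Module.Finite (A.carrier p) (D.carrier p) := Module.Finite.of_restrictScalars_finite (X.ring p) _ _
    exact ⟨Module.Finite.trans (B.carrier p) (TAlg f g p),
      Algebra.Etale.comp (X.ring p) (B.carrier p) (TAlg f g p)⟩⟩

/-- The pushout of two étale covers. -/
noncomputable def tensorE {A B D : FEt X} (f : A ⟶ B) (g : A ⟶ D) : FEt X :=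
  ⟨tensorAlg f.hom g.hom, isEtCover_tensorAlg f.hom g.hom A.property B.property D.property⟩

lemma fet_hom_ext {A B : FEt X} (f g : A ⟶ B) (h : ∀ p b, f.hom.app p b = g.hom.app p b) : f = g :=
  InducedCategory.hom_ext (Alg.hom_ext _ _ fun p => AlgHom.ext (h p))

theorem mono_of_injective {A B : FEt X} (f : A ⟶ B) (hf : ∀ p, Function.Injective (f.hom.app p)) : Mono f :=
  ⟨fun g h hgh => fet_hom_ext g h fun p b => hf p
    (AlgHom.congr_fun (congrArg (fun z => z.hom.app p) hgh) b)⟩

theorem epi_of_surjective {A B : FEt X} (f : A ⟶ B) (hf : ∀ p, Function.Surjective (f.hom.app p)) : Epi f :=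
  ⟨fun g h hgh => fet_hom_ext g h fun p b => by
    obtain ⟨a, rfl⟩ := hf p b
    exact AlgHom.congr_fun (congrArg (fun z => z.hom.app p) hgh) a⟩

/-- A morphism of étale covers that is bijective at every point is an isomorphism. -/
theorem isIso_of_bijective {A B : FEt X} (f : A ⟶ B) (hf : ∀ p, Function.Bijective (f.hom.app p)) :
    IsIso f := by
  let e : ∀ p, A.obj.carrier p ≃ₐ[X.ring p] B.obj.carrier p := fun p => AlgEquiv.ofBijective _ (hf p)
  let inv : B ⟶ A := ObjectProperty.homMk ⟨fun p => (e p).symm.toAlgHom, fun {p q} h b => by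
    apply (hf q).1
    obtain ⟨a, rfl⟩ := (hf p).2 b
    change f.hom.app q (A.obj.res h ((e p).symm (e p a))) = e q ((e q).symm (B.obj.res h (e p a)))
    rw [AlgEquiv.symm_apply_apply, AlgEquiv.apply_symm_apply]
    exact (f.hom.compat h a).symm⟩
  exact ⟨inv, fet_hom_ext _ _ fun p a => (e p).symm_apply_apply a,
    fet_hom_ext _ _ fun p b => (e p).apply_symm_apply b⟩

theorem hasInitial (X : RSpace.{u}) : HasInitial (FEt X) :=
  IsInitial.hasInitial (X := strE X) (IsInitial.ofUniqueHom
    (fun B => ObjectProperty.homMk ⟨fun p => Algebra.ofId (X.ring p) (B.obj.carrier p),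
      fun {p q} h r => B.obj.res_algebraMap h r⟩)
    fun B f => fet_hom_ext _ _ fun p r => (f.hom.app p).commutes r)

theorem hasTerminal (X : RSpace.{u}) : HasTerminal (FEt X) :=
  IsTerminal.hasTerminal (X := zeroE X) (IsTerminal.ofUniqueHom
    (fun B => ObjectProperty.homMk ⟨fun p =>
      { toFun := fun _ => 0
        map_one' := Subsingleton.elim (α := (zeroAlg X).carrier p) _ _
        map_mul' := fun _ _ => Subsingleton.elim (α := (zeroAlg X).carrier p) _ _
        map_zero' := rfl
        map_add' := fun _ _ => Subsingleton.elim (α := (zeroAlg X).carrier p) _ _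
        commutes' := fun _ => Subsingleton.elim (α := (zeroAlg X).carrier p) _ _ },
      fun {p q} h r => Subsingleton.elim (α := (zeroAlg X).carrier q) _ _⟩)
    fun B f => fet_hom_ext _ _ fun p r => Subsingleton.elim (α := (zeroAlg X).carrier p) _ _)

/-- The projections of a product. -/
def prodFst (A B : FEt X) : prodE A B ⟶ A :=
  ObjectProperty.homMk ⟨fun p => AlgHom.fst (X.ring p) (A.obj.carrier p) (B.obj.carrier p), fun _ _ => rfl⟩

/-- The projections of a product. -/
def prodSnd (A B : FEt X) : prodE A B ⟶ B :=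
  ObjectProperty.homMk ⟨fun p => AlgHom.snd (X.ring p) (A.obj.carrier p) (B.obj.carrier p), fun _ _ => rfl⟩

/-- A pointwise product is a product. -/
theorem isLimit_of_bijective {A B D : FEt X} (f : A ⟶ B) (g : A ⟶ D)
    (h : ∀ p, Function.Bijective fun a => (f.hom.app p a, g.hom.app p a)) :
    Nonempty (IsLimit (BinaryFan.mk f g)) := by
  refine ⟨BinaryFan.IsLimit.mk _ (fun {T} u v => ?_) (fun {T} u v => ?_) (fun {T} u v => ?_)
    (fun {T} u v w hu hv => ?_)⟩
  · let e : ∀ p, A.obj.carrier p ≃ₐ[X.ring p] B.obj.carrier p × D.obj.carrier p := fun p =>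
      AlgEquiv.ofBijective ((f.hom.app p).prod (g.hom.app p)) (h p)
    refine ObjectProperty.homMk ⟨fun p => (e p).symm.toAlgHom.comp ((u.hom.app p).prod (v.hom.app p)),
      fun {p q} hpq t => ?_⟩
    apply (h q).1
    change e q (A.obj.res hpq ((e p).symm (u.hom.app p t, v.hom.app p t))) =
      e q ((e q).symm (u.hom.app q (T.obj.res hpq t), v.hom.app q (T.obj.res hpq t)))
    rw [AlgEquiv.apply_symm_apply]
    obtain ⟨a, ha⟩ := (h p).2 (u.hom.app p t, v.hom.app p t)
    rw [show (e p).symm (u.hom.app p t, v.hom.app p t) = a from (e p).injective (((e p).apply_symm_apply _).trans ha.symm)]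
    exact Prod.ext
      ((f.hom.compat hpq a).symm.trans ((congrArg (B.obj.res hpq) (congrArg Prod.fst ha)).trans (u.hom.compat hpq t)))
      ((g.hom.compat hpq a).symm.trans ((congrArg (D.obj.res hpq) (congrArg Prod.snd ha)).trans (v.hom.compat hpq t)))
  · exact fet_hom_ext _ _ fun p t =>
      congrArg Prod.fst ((AlgEquiv.ofBijective ((f.hom.app p).prod (g.hom.app p)) (h p)).apply_symm_apply _)
  · exact fet_hom_ext _ _ fun p t =>
      congrArg Prod.snd ((AlgEquiv.ofBijective ((f.hom.app p).prod (g.hom.app p)) (h p)).apply_symm_apply _)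
  · refine fet_hom_ext _ _ fun p t => (h p).1 ?_
    refine (Prod.ext ?_ ?_).trans
      ((AlgEquiv.ofBijective ((f.hom.app p).prod (g.hom.app p)) (h p)).apply_symm_apply _).symm
    · exact AlgHom.congr_fun (congrArg (fun z => z.hom.app p) hu) t
    · exact AlgHom.congr_fun (congrArg (fun z => z.hom.app p) hv) t

theorem hasBinaryProducts (X : RSpace.{u}) : HasBinaryProducts (FEt X) := by
  haveI : ∀ {A B : FEt X}, HasLimit (pair A B) := fun {A B} =>
    HasLimit.mk ⟨_, (isLimit_of_bijective (prodFst A B) (prodSnd A B) fun p => Function.bijective_id).some⟩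
  exact hasBinaryProducts_of_hasLimit_pair (FEt X)

/-- The pushout cocone given by the tensor product. -/
noncomputable def tensorCocone {A B D : FEt X} (f : A ⟶ B) (g : A ⟶ D) : PushoutCocone f g :=
  PushoutCocone.mk (W := tensorE f g) (ObjectProperty.homMk (tensorInl f.hom g.hom))
    (ObjectProperty.homMk (tensorInr f.hom g.hom)) (InducedCategory.hom_ext (tensor_comm f.hom g.hom))

/-- The tensor product is a pushout. -/
noncomputable def tensorCoconeIsColimit {A B D : FEt X} (f : A ⟶ B) (g : A ⟶ D) :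
    IsColimit (tensorCocone f g) :=
  PushoutCocone.isColimitAux' _ fun s => by
    have hex := fun p => tensor_exists_lift f.hom g.hom p (s.inl.hom.app p) (s.inr.hom.app p)
      fun a => AlgHom.congr_fun (congrArg (fun z => z.hom.app p) s.condition) a
    choose w hw1 hw2 using hex
    have hcompat : ∀ {p q : X.pt} (h : p ≤ q) (c : (tensorAlg f.hom g.hom).carrier p),
        s.pt.obj.res h (w p c) = w q ((tensorAlg f.hom g.hom).res h c) := by
      intro p q h c
      let _ := homAlgebra f.hom p
      let _ := homAlgebra g.hom p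
      let _ := homAlgebra f.hom q
      let _ := homAlgebra g.hom q
      induction c using TensorProduct.induction_on with
      | zero => rw [map_zero, map_zero, map_zero, map_zero]
      | tmul b d =>
        have e : ∀ (p : X.pt) (b : B.obj.carrier p) (d : D.obj.carrier p),
            w p ((tensorInl f.hom g.hom).app p b * (tensorInr f.hom g.hom).app p d) =
              s.inl.hom.app p b * s.inr.hom.app p d := fun p b d =>
          (map_mul (w p) _ _).trans (congrArg₂ (· * ·) (AlgHom.congr_fun (hw1 p) b) (AlgHom.congr_fun (hw2 p) d))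
        have e1 : (b ⊗ₜ[A.obj.carrier p] d : (tensorAlg f.hom g.hom).carrier p) =
            (tensorInl f.hom g.hom).app p b * (tensorInr f.hom g.hom).app p d :=
          ((Algebra.TensorProduct.tmul_mul_tmul b (1 : B.obj.carrier p) (1 : D.obj.carrier p) d).trans
            (by rw [mul_one, one_mul])).symm
        rw [e1, map_mul ((tensorAlg f.hom g.hom).res h), (tensorInl f.hom g.hom).compat h b,
          (tensorInr f.hom g.hom).compat h d, e, e, map_mul, s.inl.hom.compat h b, s.inr.hom.compat h d]
      | add u v hu hv => simp only [map_add, hu, hv]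
    refine ⟨ObjectProperty.homMk ⟨w, hcompat⟩, ?_, ?_, fun {m} h1 h2 => ?_⟩
    · exact fet_hom_ext _ _ fun p b => AlgHom.congr_fun (hw1 p) b
    · exact fet_hom_ext _ _ fun p d => AlgHom.congr_fun (hw2 p) d
    · refine InducedCategory.hom_ext (Alg.hom_ext _ _ fun p => ?_)
      refine tensor_hom_ext f.hom g.hom p _ _ (AlgHom.ext fun b => ?_) (AlgHom.ext fun d => ?_)
      · exact (AlgHom.congr_fun (congrArg (fun z => z.hom.app p) h1) b).trans (AlgHom.congr_fun (hw1 p) b).symm
      · exact (AlgHom.congr_fun (congrArg (fun z => z.hom.app p) h2) d).trans (AlgHom.congr_fun (hw2 p) d).symm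

theorem hasPushouts (X : RSpace.{u}) : HasPushouts (FEt X) := by
  haveI : ∀ {A B D : FEt X} {f : A ⟶ B} {g : A ⟶ D}, HasColimit (span f g) := fun {A B D f g} =>
    HasColimit.mk ⟨_, tensorCoconeIsColimit f g⟩
  exact hasPushouts_of_hasColimit_span (FEt X)

/-! ### Kernels and complements -/

section Ker

variable {A B : FEt X} (f : A ⟶ B)

lemma exists_ker_idem (p : X.pt) :
    ∃ e : A.obj.carrier p, IsIdempotentElem e ∧ RingHom.ker (f.hom.app p).toRingHom = Ideal.span {e} := by
  obtain ⟨_, _⟩ := A.property.2 p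
  obtain ⟨_, _⟩ := B.property.2 p
  exact exists_ker_eq_span_idempotent (f.hom.app p)

/-- The idempotent generating the kernel. -/
noncomputable def kerIdem (p : X.pt) : A.obj.carrier p := (exists_ker_idem f p).choose

lemma kerIdem_idem (p : X.pt) : IsIdempotentElem (kerIdem f p) := (exists_ker_idem f p).choose_spec.1

lemma ker_eq_span (p : X.pt) : RingHom.ker (f.hom.app p).toRingHom = Ideal.span {kerIdem f p} :=
  (exists_ker_idem f p).choose_spec.2

variable (hX : X.IsFinSp)
include hX

lemma ker_le_map {p q : X.pt} (h : p ≤ q) :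
    RingHom.ker (f.hom.app q).toRingHom ≤ (RingHom.ker (f.hom.app p).toRingHom).map (A.obj.res h) := by
  intro b hb
  let _ := (X.res h).toAlgebra
  haveI : Module.Flat (X.ring p) (X.ring q) := hX.2 p q h
  obtain ⟨t, rfl⟩ := (resAlg_bijective A.property.1 h).2 b
  have hnat : ∀ t, resAlg B.obj h (LinearMap.lTensor (X.ring q) (f.hom.app p).toLinearMap t) =
      f.hom.app q (resAlg A.obj h t) := fun t => by
    induction t using TensorProduct.induction_on with
    | zero => simp only [map_zero]
    | tmul r a =>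
      rw [LinearMap.lTensor_tmul, resAlg_tmul, resAlg_tmul, map_smul]
      exact congrArg (r • ·) (f.hom.compat h a)
    | add u v hu hv => simp only [map_add, hu, hv]
  have h0 : LinearMap.lTensor (X.ring q) (f.hom.app p).toLinearMap t = 0 := by
    apply (resAlg_bijective B.property.1 h).1
    rw [hnat, map_zero]
    exact hb
  obtain ⟨s, rfl⟩ := ((Module.Flat.lTensor_exact (X.ring q) (LinearMap.exact_subtype_ker_map (f.hom.app p).toLinearMap)) t).mp h0
  clear hb h0
  induction s using TensorProduct.induction_on with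
  | zero => simp only [map_zero]; exact zero_mem _
  | tmul r a =>
    rw [LinearMap.lTensor_tmul, resAlg_tmul, Algebra.smul_def]
    exact Ideal.mul_mem_left _ _ (Ideal.mem_map_of_mem _ (show a.1 ∈ RingHom.ker (f.hom.app p).toRingHom from a.2))
  | add u v hu hv =>
    simp only [map_add]
    exact add_mem hu hv

omit hX in
lemma map_ker_le {p q : X.pt} (h : p ≤ q) :
    RingHom.ker (f.hom.app p).toRingHom ≤ (RingHom.ker (f.hom.app q).toRingHom).comap (A.obj.res h) := by
  intro a ha
  change f.hom.app q (A.obj.res h a) = 0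
  rw [← f.hom.compat h a, show f.hom.app p a = 0 from ha, map_zero]

lemma res_kerIdem {p q : X.pt} (h : p ≤ q) : A.obj.res h (kerIdem f p) = kerIdem f q := by
  have h1 : A.obj.res h (kerIdem f p) ∈ Ideal.span {kerIdem f q} := by
    rw [← ker_eq_span]
    exact map_ker_le f h (by rw [ker_eq_span]; exact Ideal.mem_span_singleton_self _)
  have h2 : kerIdem f q ∈ Ideal.span {A.obj.res h (kerIdem f p)} := by
    have := ker_le_map f hX h (show kerIdem f q ∈ RingHom.ker (f.hom.app q).toRingHom by
      rw [ker_eq_span]; exact Ideal.mem_span_singleton_self _)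
    rwa [ker_eq_span, Ideal.map_span, Set.image_singleton] at this
  obtain ⟨c, hc⟩ := Ideal.mem_span_singleton'.mp h1
  obtain ⟨d, hd⟩ := Ideal.mem_span_singleton'.mp h2
  have he := (kerIdem_idem f p).map (A.obj.res h)
  calc A.obj.res h (kerIdem f p) = A.obj.res h (kerIdem f p) * kerIdem f q := by
        conv_rhs => rw [← hc, mul_assoc, (kerIdem_idem f q).eq]
        exact hc.symm
    _ = kerIdem f q := by
        conv_lhs => rw [← hd, mul_left_comm, he.eq]
        exact hd

/-- A morphism of étale covers factors as a surjection followed by an injection, and its source is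
the product of the image and of a complement. -/
theorem exists_factor : ∃ (Q D : FEt X) (g : A ⟶ Q) (i : Q ⟶ B) (π : A ⟶ D),
    g ≫ i = f ∧ (∀ p, Function.Surjective (g.hom.app p)) ∧ (∀ p, Function.Injective (i.hom.app p)) ∧
    (∀ p, Function.Bijective fun a => (g.hom.app p a, π.hom.app p a)) ∧
    (∀ p, Function.Surjective (π.hom.app p)) := by
  let I : ∀ p, Ideal (A.obj.carrier p) := fun p => Ideal.span {kerIdem f p}
  let J : ∀ p, Ideal (A.obj.carrier p) := fun p => Ideal.span {1 - kerIdem f p}
  have hI : ∀ p q (h : p ≤ q), (I p).map (A.obj.res h) = I q := fun p q h => by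
    simp only [I, Ideal.map_span, Set.image_singleton, res_kerIdem f hX h]
  have hJ : ∀ p q (h : p ≤ q), (J p).map (A.obj.res h) = J q := fun p q h => by
    simp only [J, Ideal.map_span, Set.image_singleton, map_sub, map_one, res_kerIdem f hX h]
  have mk : ∀ (K : ∀ p, Ideal (A.obj.carrier p)) (hK : ∀ p q (h : p ≤ q), (K p).map (A.obj.res h) = K q),
      (∀ p, ∃ e, IsIdempotentElem e ∧ K p = Ideal.span {e}) →
      (quotAlg A.obj K fun p q h => Ideal.map_le_iff_le_comap.mp (hK p q h).le).IsEtCover := by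
    refine fun K hK he => ⟨isQcoh_quotAlg A.property.1 K _ (fun p q h => (hK p q h).ge), fun p => ?_⟩
    obtain ⟨_, _⟩ := A.property.2 p
    obtain ⟨e, hidem, hKe⟩ := he p
    refine ⟨Module.Finite.of_surjective (Ideal.Quotient.mkₐ (X.ring p) (K p)).toLinearMap Ideal.Quotient.mk_surjective, ?_⟩
    change Algebra.Etale (X.ring p) (A.obj.carrier p ⧸ K p)
    rw [hKe]
    exact etale_quotient_of_isIdempotentElem hidem
  let Q : FEt X := ⟨_, mk I hI fun p => ⟨_, kerIdem_idem f p, rfl⟩⟩
  let D : FEt X := ⟨_, mk J hJ fun p => ⟨_, (kerIdem_idem f p).one_sub, rfl⟩⟩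
  let g : A ⟶ Q := ObjectProperty.homMk (quotProj A.obj I _)
  let π : A ⟶ D := ObjectProperty.homMk (quotProj A.obj J _)
  let i : Q ⟶ B := ObjectProperty.homMk
    ⟨fun p => Ideal.Quotient.liftₐ (I p) (f.hom.app p) fun a ha =>
        (show a ∈ RingHom.ker (f.hom.app p).toRingHom from ker_eq_span f p ▸ ha),
      fun {p q} h b => by
        obtain ⟨b, rfl⟩ := Ideal.Quotient.mk_surjective b
        exact f.hom.compat h b⟩
  refine ⟨Q, D, g, i, π, fet_hom_ext _ _ fun p a => rfl, fun p => Ideal.Quotient.mk_surjective,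
    fun p => ?_, fun p => ?_, fun p => Ideal.Quotient.mk_surjective⟩
  · rw [injective_iff_map_eq_zero]
    intro b hb
    obtain ⟨b, rfl⟩ := Ideal.Quotient.mk_surjective b
    exact Ideal.Quotient.eq_zero_iff_mem.mpr ((ker_eq_span f p).le (RingHom.mem_ker.mpr hb))
  · have he := kerIdem_idem f p
    refine ⟨fun a b hab => ?_, fun ⟨c, d⟩ => ?_⟩
    · have h1 : a - b ∈ I p := Ideal.Quotient.eq.mp (congrArg Prod.fst hab)
      have h2 : a - b ∈ J p := Ideal.Quotient.eq.mp (congrArg Prod.snd hab)
      obtain ⟨c, hc⟩ := Ideal.mem_span_singleton'.mp h1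
      obtain ⟨d, hd⟩ := Ideal.mem_span_singleton'.mp h2
      refine sub_eq_zero.mp ?_
      calc a - b = (a - b) * kerIdem f p := by rw [← hc, mul_assoc, he.eq]
        _ = 0 := by rw [← hd, mul_assoc, sub_mul, one_mul, he.eq, sub_self, mul_zero]
    · obtain ⟨c, rfl⟩ := Ideal.Quotient.mk_surjective c
      obtain ⟨d, rfl⟩ := Ideal.Quotient.mk_surjective d
      refine ⟨c * (1 - kerIdem f p) + d * kerIdem f p, Prod.ext (Ideal.Quotient.eq.mpr ?_) (Ideal.Quotient.eq.mpr ?_)⟩
      · exact Ideal.mem_span_singleton'.mpr ⟨d - c, by ring⟩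
      · exact Ideal.mem_span_singleton'.mpr ⟨c - d, by ring⟩

theorem injective_of_mono [Mono f] (p : X.pt) : Function.Injective (f.hom.app p) := by
  obtain ⟨Q, D, g, i, π, hfac, hg, hi, hbij, hπ⟩ := exists_factor f hX
  obtain ⟨hlim⟩ := isLimit_of_bijective g π hbij
  obtain ⟨u₁, hu1, hu2⟩ := BinaryFan.IsLimit.lift' hlim (prodFst A D ≫ g) (prodFst A D ≫ π)
  obtain ⟨u₂, hv1, hv2⟩ := BinaryFan.IsLimit.lift' hlim (prodFst A D ≫ g) (prodSnd A D)
  change u₁ ≫ g = _ at hu1
  change u₂ ≫ g = _ at hv1
  change u₁ ≫ π = _ at hu2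
  change u₂ ≫ π = _ at hv2
  have hu : u₁ = u₂ := by
    rw [← cancel_mono f, ← hfac, ← Category.assoc, ← Category.assoc, hu1, hv1]
  have hD : ∀ d : D.obj.carrier p, d = 0 := fun d =>
    ((AlgHom.congr_fun (congrArg (fun z => z.hom.app p) (hu2.symm.trans ((congrArg (· ≫ π) hu).trans hv2)))
      ((0, d) : A.obj.carrier p × D.obj.carrier p)).symm.trans (map_zero (π.hom.app p)))
  intro a b hab
  refine (hbij p).1 (Prod.ext (hi p ?_) ((hD _).trans (hD _).symm))
  have := congrArg (fun z : A ⟶ B => z.hom.app p) hfac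
  exact (AlgHom.congr_fun this a).trans (hab.trans (AlgHom.congr_fun this b).symm)

/-- A pointwise surjective morphism is the projection to a direct factor. -/
theorem exists_isLimit_of_surjective (hf : ∀ p, Function.Surjective (f.hom.app p)) :
    ∃ (D : FEt X) (π : A ⟶ D), Nonempty (IsLimit (BinaryFan.mk f π)) := by
  obtain ⟨Q, D, g, i, π, hfac, hg, hi, hbij, -⟩ := exists_factor f hX
  have hib : ∀ p, Function.Bijective (i.hom.app p) := fun p => ⟨hi p, fun b => by
    obtain ⟨a, rfl⟩ := hf p b
    exact ⟨g.hom.app p a, AlgHom.congr_fun (congrArg (fun z : A ⟶ B => z.hom.app p) hfac) a⟩⟩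
  refine ⟨D, π, isLimit_of_bijective f π fun p => ?_⟩
  have : (fun a => (f.hom.app p a, π.hom.app p a)) =
      Prod.map (i.hom.app p) id ∘ fun a => (g.hom.app p a, π.hom.app p a) := by
    funext a
    exact Prod.ext (AlgHom.congr_fun (congrArg (fun z : A ⟶ B => z.hom.app p) hfac.symm) a) rfl
  rw [this]
  exact ((hib p).prodMap Function.bijective_id).comp (hbij p)

end Ker

theorem isIso_of_injective_of_rank {A B : FEt X} (f : A ⟶ B)
    (hf : ∀ p, Function.Injective (f.hom.app p))
    (hdeg : ∀ (p : X.pt) (P : PrimeSpectrum (X.ring p)),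
      Module.rankAtStalk (A.obj.carrier p) P = Module.rankAtStalk (B.obj.carrier p) P) : IsIso f :=
  isIso_of_bijective f fun p => by
    obtain ⟨_, _⟩ := A.property.2 p
    obtain ⟨_, _⟩ := B.property.2 p
    exact bijective_of_injective_of_rankAtStalk_eq (f.hom.app p) (hf p) (hdeg p)

end Groth.Agent.SchFinH13
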