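import Mathlib
import Groth.Agent.Lib.SchFinH13.FEt
import Groth.Agent.Lib.SchFinH13.Pairs

/-!
The fibre functor of a geometric point on étale covers: points, ranks, reflection of isomorphisms,
preservation of limits and colimits.
-/

universe u

open TensorProduct CategoryTheory CategoryTheory.Limits Opposite

namespace Groth.Agent.SchFinH13

open SchFin

set_option backward.isDefEq.respectTransparency false

section Algebra

variable {Ω : Type u} [Field Ω] [IsAlgClosed Ω]

/-- A nonzero finite algebra over an algebraically closed field has a point. -/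
lemma nonempty_algHom_of_nontrivial (T : Type u) [CommRing T] [Algebra Ω T] [Module.Finite Ω T]
    [Nontrivial T] : Nonempty (T →ₐ[Ω] Ω) := by
  obtain ⟨m, hm⟩ := Ideal.exists_maximal T
  haveI := hm
  letI : Field (T ⧸ m) := Ideal.Quotient.field m
  exact ⟨((AlgEquiv.ofBijective (Algebra.ofId Ω (T ⧸ m))
    IsAlgClosed.algebraMap_bijective_of_isIntegral).symm : (T ⧸ m) ≃ₐ[Ω] Ω).toAlgHom.comp
      (Ideal.Quotient.mkₐ Ω m)⟩

/-- The point of the spectrum given by a rational point. -/
def ptSpec {T : Type u} [CommRing T] [Algebra Ω T] (χ : T →ₐ[Ω] Ω) : PrimeSpectrum T :=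
  PrimeSpectrum.comap χ.toRingHom ⊥

/-- For a finite algebra over an algebraically closed field the points of the spectrum are the
rational points. -/
lemma ptSpec_bijective (T : Type u) [CommRing T] [Algebra Ω T] [Module.Finite Ω T] :
    Function.Bijective (ptSpec : (T →ₐ[Ω] Ω) → PrimeSpectrum T) := by
  refine ⟨fun χ χ' h => AlgHom.ext fun t => ?_, fun P => ?_⟩
  · have h1 : ∀ (χ : T →ₐ[Ω] Ω) (x : T), x ∈ (ptSpec χ).asIdeal ↔ χ x = 0 := fun χ x => Iff.rfl
    have h2 : χ' (t - algebraMap Ω T (χ t)) = 0 := by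
      rw [← h1, ← h, h1, map_sub, AlgHom.commutes, Algebra.algebraMap_self, RingHom.id_apply, sub_self]
    rw [map_sub, AlgHom.commutes, Algebra.algebraMap_self, RingHom.id_apply, sub_eq_zero] at h2
    exact h2.symm
  · haveI := P.isPrime
    let e : Ω ≃ₐ[Ω] T ⧸ P.asIdeal := AlgEquiv.ofBijective (Algebra.ofId Ω (T ⧸ P.asIdeal))
      IsAlgClosed.algebraMap_bijective_of_isIntegral
    refine ⟨e.symm.toAlgHom.comp (Ideal.Quotient.mkₐ Ω P.asIdeal), PrimeSpectrum.ext (Ideal.ext fun x => ?_)⟩
    change e.symm (Ideal.Quotient.mk P.asIdeal x) = 0 ↔ x ∈ P.asIdeal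
    rw [map_eq_zero_iff e.symm e.symm.injective, Ideal.Quotient.eq_zero_iff_mem]

end Algebra

variable {X : RSpace.{u}} {Ω : Type u} [Field Ω] [IsAlgClosed Ω] (ξ : GeomPt X Ω)

/-- A point of an algebra over a geometric point. -/
abbrev Pt (A : Alg X) : Type u :=
  letI : Algebra (X.ring ξ.base) Ω := ξ.toField.toAlgebra
  A.carrier ξ.base →ₐ[X.ring ξ.base] Ω

/-- The linear extension of a point. -/
noncomputable def ptLift (A : Alg X) (φ : Pt ξ A) :
    letI : Algebra (X.ring ξ.base) Ω := ξ.toField.toAlgebra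
    Ω ⊗[X.ring ξ.base] A.carrier ξ.base →ₐ[Ω] Ω :=
  letI : Algebra (X.ring ξ.base) Ω := ξ.toField.toAlgebra
  Algebra.TensorProduct.lift (Algebra.ofId Ω Ω) φ fun _ _ => Commute.all _ _

/-- The point of the fibre given by a point. -/
noncomputable def toFib (A : Alg X) (φ : Pt ξ A) : ξ.Fib A :=
  letI : Algebra (X.ring ξ.base) Ω := ξ.toField.toAlgebra
  ptSpec (ptLift ξ A φ)

lemma toFib_bijective (A : Alg X) [Module.Finite (X.ring ξ.base) (A.carrier ξ.base)] :
    Function.Bijective (toFib ξ A) := by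
  let _ : Algebra (X.ring ξ.base) Ω := ξ.toField.toAlgebra
  refine (ptSpec_bijective (Ω ⊗[X.ring ξ.base] A.carrier ξ.base)).comp ⟨fun φ φ' h => ?_, fun χ => ?_⟩
  · refine AlgHom.ext fun a => ?_
    have := AlgHom.congr_fun h ((1 : Ω) ⊗ₜ a)
    simpa [ptLift] using this
  · refine ⟨(χ.restrictScalars (X.ring ξ.base)).comp Algebra.TensorProduct.includeRight, ?_⟩
    refine Algebra.TensorProduct.ext (AlgHom.ext fun c => ?_) (AlgHom.ext fun a => ?_)
    · simpa [ptLift] using (χ.commutes c).symm
    · simp [ptLift]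

/-- The map of points induced by a morphism. -/
def ptMap {A B : Alg X} (f : A ⟶ B) (φ : Pt ξ B) : Pt ξ A :=
  letI : Algebra (X.ring ξ.base) Ω := ξ.toField.toAlgebra
  φ.comp (f.app ξ.base)

lemma ptMap_apply {A B : Alg X} (f : A ⟶ B) (φ : Pt ξ B) (a : A.carrier ξ.base) :
    ptMap ξ f φ a = φ (f.app ξ.base a) := rfl

lemma toFib_natural {A B : Alg X} (f : A ⟶ B) (φ : Pt ξ B) :
    ξ.fibMap f (toFib ξ B φ) = toFib ξ A (ptMap ξ f φ) := by
  let _ : Algebra (X.ring ξ.base) Ω := ξ.toField.toAlgebra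
  have h : (ptLift ξ B φ).comp (Algebra.TensorProduct.map (AlgHom.id Ω Ω) (f.app ξ.base)) =
      ptLift ξ A (ptMap ξ f φ) := by
    refine Algebra.TensorProduct.ext (AlgHom.ext fun c => ?_) (AlgHom.ext fun a => ?_) <;>
      simp [ptLift, ptMap]
  exact (PrimeSpectrum.ext (Ideal.ext fun x => by
    change ptLift ξ B φ (Algebra.TensorProduct.map (AlgHom.id Ω Ω) (f.app ξ.base) x) = 0 ↔
      ptLift ξ A (ptMap ξ f φ) x = 0
    rw [← h]; rfl))

lemma pt_finite (A : FEt X) : Module.Finite (X.ring ξ.base) (A.obj.carrier ξ.base) := (A.property.2 ξ.base).1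

lemma toFib_bij (A : FEt X) : Function.Bijective (toFib ξ A.obj) :=
  haveI := pt_finite ξ A
  toFib_bijective ξ A.obj

lemma fibMap_injective_iff {A B : FEt X} (f : A ⟶ B) :
    Function.Injective (ξ.fibMap f.hom) ↔ Function.Injective (ptMap ξ f.hom) := by
  have h : ξ.fibMap f.hom ∘ toFib ξ B.obj = toFib ξ A.obj ∘ ptMap ξ f.hom := funext (toFib_natural ξ f.hom)
  rw [← Function.Injective.of_comp_iff' (ξ.fibMap f.hom) (toFib_bij ξ B), h,
    Function.Injective.of_comp_iff (toFib_bij ξ A).1]

lemma fibMap_surjective_iff {A B : FEt X} (f : A ⟶ B) :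
    Function.Surjective (ξ.fibMap f.hom) ↔ Function.Surjective (ptMap ξ f.hom) := by
  have h : ξ.fibMap f.hom ∘ toFib ξ B.obj = toFib ξ A.obj ∘ ptMap ξ f.hom := funext (toFib_natural ξ f.hom)
  rw [← Function.Surjective.of_comp_iff (ξ.fibMap f.hom) (toFib_bij ξ B).2, h,
    Function.Surjective.of_comp_iff' (toFib_bij ξ A)]

lemma ptMap_injective_of_surjective {A B : FEt X} (f : A ⟶ B)
    (hf : Function.Surjective (f.hom.app ξ.base)) : Function.Injective (ptMap ξ f.hom) := by
  let _ : Algebra (X.ring ξ.base) Ω := ξ.toField.toAlgebra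
  exact fun φ φ' h => AlgHom.ext fun b => by
    obtain ⟨a, rfl⟩ := hf b
    exact AlgHom.congr_fun h a

lemma ptMap_surjective_of_injective {A B : FEt X} (f : A ⟶ B)
    (hf : Function.Injective (f.hom.app ξ.base)) : Function.Surjective (ptMap ξ f.hom) := by
  let _ : Algebra (X.ring ξ.base) Ω := ξ.toField.toAlgebra
  intro φ
  obtain ⟨_, _⟩ := A.property.2 ξ.base
  obtain ⟨_, _⟩ := B.property.2 ξ.base
  let _ := homAlgebra f.hom ξ.base
  let _ := φ.toRingHom.toAlgebra
  haveI : IsScalarTower (X.ring ξ.base) (A.obj.carrier ξ.base) (B.obj.carrier ξ.base) :=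
    IsScalarTower.of_algebraMap_eq fun r => ((f.hom.app ξ.base).commutes r).symm
  haveI : IsScalarTower (X.ring ξ.base) (A.obj.carrier ξ.base) Ω :=
    IsScalarTower.of_algebraMap_eq fun r => (φ.commutes r).symm
  haveI : Algebra.Etale (A.obj.carrier ξ.base) (B.obj.carrier ξ.base) :=
    Algebra.Etale.of_restrictScalars (X.ring ξ.base) _ _
  haveI : Module.Finite (A.obj.carrier ξ.base) (B.obj.carrier ξ.base) :=
    Module.Finite.of_restrictScalars_finite (X.ring ξ.base) _ _
  haveI : FaithfulSMul (A.obj.carrier ξ.base) (B.obj.carrier ξ.base) :=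
    (faithfulSMul_iff_algebraMap_injective _ _).mpr hf
  haveI : Module.FaithfullyFlat (A.obj.carrier ξ.base) (B.obj.carrier ξ.base) :=
    Module.FaithfullyFlat.of_comap_surjective (Algebra.IsIntegral.comap_surjective _ _)
  haveI : Nontrivial (Ω ⊗[A.obj.carrier ξ.base] B.obj.carrier ξ.base) :=
    Module.FaithfullyFlat.rTensor_nontrivial _ _ Ω
  obtain ⟨χ⟩ := nonempty_algHom_of_nontrivial (Ω := Ω) (Ω ⊗[A.obj.carrier ξ.base] B.obj.carrier ξ.base)
  let ψ : B.obj.carrier ξ.base →ₐ[A.obj.carrier ξ.base] Ω :=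
    (χ.restrictScalars (A.obj.carrier ξ.base)).comp Algebra.TensorProduct.includeRight
  exact ⟨ψ.restrictScalars (X.ring ξ.base), AlgHom.ext fun a => ψ.commutes a⟩

/-! ### Ranks -/

lemma etale_flat {p : X.pt} (A : FEt X) : Module.Flat (X.ring p) (A.obj.carrier p) :=
  haveI := (A.property.2 p).2
  inferInstance

lemma rank_res (A : FEt X) {p q : X.pt} (h : p ≤ q) (Q : PrimeSpectrum (X.ring q)) :
    Module.rankAtStalk (A.obj.carrier q) Q =
      Module.rankAtStalk (A.obj.carrier p) (PrimeSpectrum.comap (X.res h) Q) := by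
  let _ := (X.res h).toAlgebra
  haveI := etale_flat (p := p) A
  haveI := (A.property.2 p).1
  rw [← Module.rankAtStalk_eq_of_equiv
    (LinearEquiv.ofBijective (resAlg A.obj h).toLinearMap (resAlg_bijective A.property.1 h)),
    Module.rankAtStalk_baseChange]
  rfl

lemma rank_eq (hX : X.IsSchematic) (hwc : X.IsWellConnected) (A : FEt X) (p q : X.pt)
    (P : PrimeSpectrum (X.ring p)) (Q : PrimeSpectrum (X.ring q)) :
    Module.rankAtStalk (A.obj.carrier p) P = Module.rankAtStalk (A.obj.carrier q) Q := by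
  have hc : ∀ (p : X.pt) (P P' : PrimeSpectrum (X.ring p)),
      Module.rankAtStalk (A.obj.carrier p) P = Module.rankAtStalk (A.obj.carrier p) P' := by
    intro p P P'
    haveI := hX.1.1 p
    haveI := etale_flat (p := p) A
    haveI := (A.property.2 p).1
    haveI : Module.FinitePresentation (X.ring p) (A.obj.carrier p) :=
      Module.finitePresentation_of_finite _ _
    haveI := hwc.2 p
    exact Module.isLocallyConstant_rankAtStalk.apply_eq_of_preconnectedSpace P P'
  have hne : ∀ p : X.pt, Nonempty (PrimeSpectrum (X.ring p)) := fun p => (hwc.2 p).toNonempty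
  suffices ∀ a b : X.pt, Relation.EqvGen (fun a b : X.pt => a ≤ b) a b →
      ∀ (P : PrimeSpectrum (X.ring a)) (Q : PrimeSpectrum (X.ring b)),
      Module.rankAtStalk (A.obj.carrier a) P = Module.rankAtStalk (A.obj.carrier b) Q from
    this p q ((isTopConnected_of_isConnected hwc.1 hwc.2).2 p q) P Q
  intro a b hab
  induction hab with
  | rel a b h => exact fun P Q => (hc a P _).trans (rank_res A h Q).symm
  | refl a => exact hc a
  | symm a b _ ih => exact fun P Q => (ih Q P).symm
  | trans a b c _ _ ih1 ih2 => exact fun P Q => (ih1 P (hne b).some).trans (ih2 _ Q)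

/-- The prime of the base ring cut out by the geometric point. -/
def basePrime : PrimeSpectrum (X.ring ξ.base) := PrimeSpectrum.comap ξ.toField ⊥

lemma card_fib (A : FEt X) :
    Nat.card (ξ.Fib A.obj) = Module.rankAtStalk (A.obj.carrier ξ.base) (basePrime ξ) := by
  let _ : Algebra (X.ring ξ.base) Ω := ξ.toField.toAlgebra
  obtain ⟨_, _⟩ := A.property.2 ξ.base
  haveI := etale_flat (p := ξ.base) A
  let T := Ω ⊗[X.ring ξ.base] A.obj.carrier ξ.base
  have h1 : Module.rankAtStalk T (⊥ : PrimeSpectrum Ω) =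
      Module.rankAtStalk (A.obj.carrier ξ.base) (basePrime ξ) :=
    Module.rankAtStalk_baseChange _
  rw [← h1, Module.rankAtStalk_eq_finrank_of_free, Pi.natCast_apply]
  haveI : IsArtinianRing T := IsArtinianRing.of_finite Ω T
  haveI : Fintype (PrimeSpectrum T) := Fintype.ofFinite _
  rw [(Algebra.FormallyEtale.equivPiOfIsSepClosed Ω T).toLinearEquiv.finrank_eq,
    Module.finrank_fintype_fun_eq_card, ← Nat.card_eq_fintype_card]
  rfl

theorem reflectsIso (hX : X.IsSchematic) (hwc : X.IsWellConnected) :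
    ξ.fibFunctor.ReflectsIsomorphisms := by
  refine ⟨fun {U V} φ hφ => ?_⟩
  let f : V.unop ⟶ U.unop := φ.unop
  have hb : Function.Bijective (ξ.fibMap f.hom) :=
    (isIso_iff_bijective ((FintypeCat.incl).map (ξ.fibFunctor.map φ))).mp inferInstance
  obtain ⟨Q, D, g, i, π, hfac, hg, hi, hbij, -⟩ := exists_factor f hX.1
  have hcomp : ξ.fibMap f.hom = ξ.fibMap g.hom ∘ ξ.fibMap i.hom := by
    rw [← hfac]; exact ξ.fibMap_comp g.hom i.hom
  have hgb : Function.Bijective (ξ.fibMap g.hom) :=
    ⟨(fibMap_injective_iff ξ g).mpr (ptMap_injective_of_surjective ξ g (hg _)),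
      Function.Surjective.of_comp (hcomp ▸ hb.2)⟩
  have hsum : ∀ (p : X.pt) (P : PrimeSpectrum (X.ring p)), Module.rankAtStalk (V.unop.obj.carrier p) P =
      Module.rankAtStalk (Q.obj.carrier p) P + Module.rankAtStalk (D.obj.carrier p) P := fun p P => by
    haveI := etale_flat (p := p) Q
    haveI := etale_flat (p := p) D
    haveI := (Q.property.2 p).1
    haveI := (D.property.2 p).1
    rw [Module.rankAtStalk_eq_of_equiv (LinearEquiv.ofBijective
      ((g.hom.app p).prod (π.hom.app p)).toLinearMap (hbij p)), Module.rankAtStalk_prod]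
    rfl
  have hD0 : Module.rankAtStalk (D.obj.carrier ξ.base) (basePrime ξ) = 0 := by
    have := hsum ξ.base (basePrime ξ)
    rw [← card_fib, ← card_fib, Nat.card_eq_of_bijective _ hgb] at this
    omega
  have hD : ∀ p, Subsingleton (D.obj.carrier p) := fun p => by
    haveI := etale_flat (p := p) D
    haveI := (D.property.2 p).1
    exact (Module.rankAtStalk_eq_zero_iff_subsingleton (R := X.ring p)).mp
      (funext fun P => (rank_eq hX hwc D p ξ.base P (basePrime ξ)).trans hD0)
  have hinj : ∀ p, Function.Injective (f.hom.app p) := fun p a b hab => by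
    haveI := hD p
    refine (hbij p).1 (Prod.ext (hi p ?_) (Subsingleton.elim _ _))
    have := congrArg (fun z => z.hom.app p) hfac
    exact (AlgHom.congr_fun this a).trans (hab.trans (AlgHom.congr_fun this b).symm)
  haveI : IsIso f := isIso_of_injective_of_rank f hinj fun p P => by
    rw [rank_eq hX hwc V.unop p ξ.base P (basePrime ξ), rank_eq hX hwc U.unop p ξ.base P (basePrime ξ),
      ← card_fib, ← card_fib, Nat.card_eq_of_bijective _ hb]
  exact inferInstanceAs (IsIso f.op)

end Groth.Agent.SchFinH13
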