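import Mathlib
import Groth.Agent.Lib.SchFinH13.Galois

/-!
The fibre functor preserves terminal objects, pullbacks, finite coproducts and epimorphisms.
-/

universe u

open TensorProduct CategoryTheory CategoryTheory.Limits Opposite

namespace Groth.Agent.SchFinH13

open SchFin

set_option backward.isDefEq.respectTransparency false

variable {X : RSpace.{u}} {Ω : Type u} [Field Ω] [IsAlgClosed Ω] (ξ : GeomPt X Ω)

lemma incl_map_apply {U V : (FEt X)ᵒᵖ} (φ : U ⟶ V) (x : ξ.Fib U.unop.obj) :
    FintypeCat.incl.map (ξ.fibFunctor.map φ) x = ξ.fibMap φ.unop.hom x := rfl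

lemma subsingleton_fib_strE : Nonempty (ξ.Fib (strE X).obj) ∧ Subsingleton (ξ.Fib (strE X).obj) := by
  let _ : Algebra (X.ring ξ.base) Ω := ξ.toField.toAlgebra
  refine ⟨⟨toFib ξ _ (Algebra.ofId (X.ring ξ.base) Ω)⟩, ⟨fun a b => ?_⟩⟩
  obtain ⟨φ, rfl⟩ := (toFib_bij ξ (strE X)).2 a
  obtain ⟨ψ, rfl⟩ := (toFib_bij ξ (strE X)).2 b
  exact congrArg _ (AlgHom.ext fun r => (φ.commutes r).trans (ψ.commutes r).symm)

lemma isEmpty_fib_zeroE : IsEmpty (ξ.Fib (zeroE X).obj) := by
  let _ : Algebra (X.ring ξ.base) Ω := ξ.toField.toAlgebra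
  refine ⟨fun a => ?_⟩
  obtain ⟨φ, rfl⟩ := (toFib_bij ξ (zeroE X)).2 a
  exact one_ne_zero ((map_one φ).symm.trans
    ((congrArg φ (Subsingleton.elim (α := (zeroAlg X).carrier ξ.base) 1 0)).trans (map_zero φ)))

theorem preservesTerminal : PreservesLimitsOfShape (Discrete PEmpty.{1}) ξ.fibFunctor := by
  haveI : PreservesLimit (Functor.empty.{0} (FEt X)ᵒᵖ) (ξ.fibFunctor ⋙ FintypeCat.incl) := by
    have ht : IsTerminal (op (strE X)) := (IsInitial.ofUniqueHom (X := strE X)
      (fun B => ObjectProperty.homMk ⟨fun p => Algebra.ofId (X.ring p) (B.obj.carrier p),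
        fun {p q} h r => B.obj.res_algebraMap h r⟩)
      fun B f => fet_hom_ext _ _ fun p r => (f.hom.app p).commutes r).op
    obtain ⟨h1, h2⟩ := subsingleton_fib_strE ξ
    refine preservesLimit_of_preserves_limit_cone ht ((isLimitMapConeEmptyConeEquiv _ _).symm ?_)
    exact IsTerminal.ofUniqueHom (fun T => TypeCat.ofHom fun _ => h1.some)
      fun T m => ConcreteCategory.hom_ext _ _ fun t => h2.elim _ _
  haveI := preservesLimitsOfShape_pempty_of_preservesTerminal (ξ.fibFunctor ⋙ FintypeCat.incl)
  exact preservesLimitsOfShape_of_reflects_of_preserves ξ.fibFunctor FintypeCat.incl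

theorem isPullback_map {A B D : FEt X} (f : A ⟶ B) (g : A ⟶ D) :
    IsPullback ((ξ.fibFunctor ⋙ FintypeCat.incl).map (tensorCocone f g).inl.op)
      ((ξ.fibFunctor ⋙ FintypeCat.incl).map (tensorCocone f g).inr.op)
      ((ξ.fibFunctor ⋙ FintypeCat.incl).map f.op) ((ξ.fibFunctor ⋙ FintypeCat.incl).map g.op) := by
  let _ : Algebra (X.ring ξ.base) Ω := ξ.toField.toAlgebra
  rw [Types.isPullback_iff]
  refine ⟨?_, fun x y h => ?_, fun b d h => ?_⟩
  · rw [← Functor.map_comp, ← Functor.map_comp, ← op_comp, ← op_comp, (tensorCocone f g).condition]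
  · obtain ⟨φ, rfl⟩ := (toFib_bij ξ (tensorE f g)).2 x
    obtain ⟨ψ, rfl⟩ := (toFib_bij ξ (tensorE f g)).2 y
    obtain ⟨h1, h2⟩ := h
    replace h1 := ((toFib_natural ξ (tensorInl f.hom g.hom) φ).symm.trans h1).trans
      (toFib_natural ξ (tensorInl f.hom g.hom) ψ)
    replace h2 := ((toFib_natural ξ (tensorInr f.hom g.hom) φ).symm.trans h2).trans
      (toFib_natural ξ (tensorInr f.hom g.hom) ψ)
    exact congrArg _ (tensor_hom_ext f.hom g.hom ξ.base φ ψ ((toFib_bij ξ B).1 h1) ((toFib_bij ξ D).1 h2))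
  · obtain ⟨φ, rfl⟩ := (toFib_bij ξ B).2 b
    obtain ⟨ψ, rfl⟩ := (toFib_bij ξ D).2 d
    have he : ptMap ξ f.hom φ = ptMap ξ g.hom ψ :=
      (toFib_bij ξ A).1 (((toFib_natural ξ f.hom φ).symm.trans h).trans (toFib_natural ξ g.hom ψ))
    obtain ⟨w, hw1, hw2⟩ := tensor_exists_lift f.hom g.hom ξ.base φ ψ fun a => AlgHom.congr_fun he a
    refine ⟨toFib ξ (tensorE f g).obj w, ?_, ?_⟩
    · exact (toFib_natural ξ (tensorInl f.hom g.hom) w).trans (congrArg (toFib ξ B.obj) hw1)
    · exact (toFib_natural ξ (tensorInr f.hom g.hom) w).trans (congrArg (toFib ξ D.obj) hw2)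

theorem preservesPullbacks : PreservesLimitsOfShape WalkingCospan ξ.fibFunctor := by
  haveI : ∀ {U V W : (FEt X)ᵒᵖ} (f : U ⟶ W) (g : V ⟶ W),
      PreservesLimit (cospan f g) (ξ.fibFunctor ⋙ FintypeCat.incl) := fun {U V W} f g => by
    have hpb : IsPullback (tensorCocone f.unop g.unop).inl.op (tensorCocone f.unop g.unop).inr.op f g :=
      ((IsPushout.of_isColimit (tensorCoconeIsColimit f.unop g.unop)).op).flip
    exact preservesLimit_of_preserves_limit_cone hpb.isLimit
      ((isLimitMapConePullbackConeEquiv _ hpb.w).symm (isPullback_map ξ f.unop g.unop).isLimit)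
  haveI : PreservesLimitsOfShape WalkingCospan (ξ.fibFunctor ⋙ FintypeCat.incl) :=
    ⟨fun {K} => preservesLimit_of_iso_diagram _ (diagramIsoCospan K).symm⟩
  exact preservesLimitsOfShape_of_reflects_of_preserves ξ.fibFunctor FintypeCat.incl

theorem preservesBinaryCoproducts :
    PreservesColimitsOfShape (Discrete WalkingPair) (ξ.fibFunctor ⋙ FintypeCat.incl) := by
  haveI : ∀ U V : (FEt X)ᵒᵖ, PreservesColimit (pair U V) (ξ.fibFunctor ⋙ FintypeCat.incl) := fun U V => by
    let f := prodFst U.unop V.unop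
    let g := prodSnd U.unop V.unop
    obtain ⟨hlim⟩ := isLimit_of_bijective f g fun p => Function.bijective_id
    have hcol : IsColimit (BinaryCofan.mk f.op g.op : BinaryCofan U V) := BinaryFan.IsLimit.op hlim
    refine preservesColimit_of_preserves_colimit_cocone hcol ((isColimitMapCoconeBinaryCofanEquiv _ _ _).symm ?_)
    refine Nonempty.some ?_
    rw [Types.binaryCofan_isColimit_iff]
    let _ : Algebra (X.ring ξ.base) Ω := ξ.toField.toAlgebra
    refine ⟨?_, ?_, ?_⟩
    · change Function.Injective (ξ.fibMap f.hom)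
      exact (fibMap_injective_iff ξ f).mpr (ptMap_injective_of_surjective ξ f Prod.fst_surjective)
    · change Function.Injective (ξ.fibMap g.hom)
      exact (fibMap_injective_iff ξ g).mpr (ptMap_injective_of_surjective ξ g Prod.snd_surjective)
    change IsCompl (Set.range (ξ.fibMap f.hom)) (Set.range (ξ.fibMap g.hom))
    refine ⟨Set.disjoint_iff_forall_ne.mpr ?_, codisjoint_iff.mpr (Set.eq_univ_of_forall ?_)⟩
    · rintro _ ⟨x, rfl⟩ _ ⟨y, rfl⟩ h
      obtain ⟨φ, rfl⟩ := (toFib_bij ξ U.unop).2 x
      obtain ⟨ψ, rfl⟩ := (toFib_bij ξ V.unop).2 y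
      have he : ptMap ξ f.hom φ = ptMap ξ g.hom ψ := (toFib_bij ξ (prodE U.unop V.unop)).1
        (((toFib_natural ξ f.hom φ).symm.trans h).trans (toFib_natural ξ g.hom ψ))
      exact one_ne_zero ((map_one φ).symm.trans ((AlgHom.congr_fun he ((1, 0) :
        U.unop.obj.carrier ξ.base × V.unop.obj.carrier ξ.base)).trans (map_zero ψ)))
    · intro z
      obtain ⟨χ, rfl⟩ := (toFib_bij ξ (prodE U.unop V.unop)).2 z
      let χ' : U.unop.obj.carrier ξ.base × V.unop.obj.carrier ξ.base →ₐ[X.ring ξ.base] Ω := χ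
      have hsum : χ' (1, 0) + χ' (0, 1) = 1 :=
        ((map_add χ' _ _).symm.trans (congrArg χ' (Prod.ext (add_zero _) (zero_add _)))).trans (map_one χ')
      have hprod : χ' (1, 0) * χ' (0, 1) = 0 :=
        ((map_mul χ' _ _).symm.trans (congrArg χ' (Prod.ext (mul_zero _) (zero_mul _)))).trans (map_zero χ')
      rcases mul_eq_zero.mp hprod with h0 | h0
      · right
        have hfac : ∀ a b, χ' (a, b) = χ' (0, b) := fun a b => by
          have : χ' (a, b) = χ' (a, b) * χ' (0, 1) := by
            rw [h0, zero_add] at hsum; rw [hsum, mul_one]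
          rw [this, ← map_mul]; simp
        refine ⟨toFib ξ V.unop.obj
          { toFun := fun b => χ' (0, b)
            map_one' := by rw [← hfac 1 1, ← Prod.one_eq_mk, map_one]
            map_mul' := fun a b => by rw [← map_mul]; simp
            map_zero' := by rw [← Prod.zero_eq_mk, map_zero]
            map_add' := fun a b => by rw [← map_add]; simp
            commutes' := fun r => by
              rw [← hfac (algebraMap _ _ r)]; exact χ'.commutes r }, ?_⟩
        refine (toFib_natural ξ g.hom _).trans (congrArg _ (AlgHom.ext fun x => ?_))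
        exact (hfac x.1 x.2).symm
      · left
        have hfac : ∀ a b, χ' (a, b) = χ' (a, 0) := fun a b => by
          have : χ' (a, b) = χ' (a, b) * χ' (1, 0) := by
            rw [h0, add_zero] at hsum; rw [hsum, mul_one]
          rw [this, ← map_mul]; simp
        refine ⟨toFib ξ U.unop.obj
          { toFun := fun a => χ' (a, 0)
            map_one' := by rw [← hfac 1 1, ← Prod.one_eq_mk, map_one]
            map_mul' := fun a b => by rw [← map_mul]; simp
            map_zero' := by rw [← Prod.zero_eq_mk, map_zero]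
            map_add' := fun a b => by rw [← map_add]; simp
            commutes' := fun r => by
              rw [← hfac _ (algebraMap _ _ r)]; exact χ'.commutes r }, ?_⟩
        refine (toFib_natural ξ f.hom _).trans (congrArg _ (AlgHom.ext fun x => ?_))
        exact (hfac x.1 x.2).symm
  exact ⟨fun {K} => preservesColimit_of_iso_diagram _ (diagramIsoPair K).symm⟩

theorem preservesFiniteCoproducts : PreservesFiniteCoproducts ξ.fibFunctor := by
  haveI : HasTerminal (FEt X) := hasTerminal X
  haveI : HasBinaryProducts (FEt X) := hasBinaryProducts X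
  haveI : HasFiniteProducts (FEt X) := hasFiniteProducts_of_has_binary_and_terminal
  haveI : HasFiniteCoproducts (FEt X)ᵒᵖ := inferInstance
  haveI := preservesBinaryCoproducts ξ
  haveI : PreservesColimitsOfShape (Discrete PEmpty.{1}) (ξ.fibFunctor ⋙ FintypeCat.incl) := by
    have ht : IsInitial (op (zeroE X)) := (IsTerminal.ofUniqueHom (Y := zeroE X)
      (fun B => ObjectProperty.homMk ⟨fun p =>
        { toFun := fun _ => 0
          map_one' := Subsingleton.elim (α := (zeroAlg X).carrier p) _ _
          map_mul' := fun _ _ => Subsingleton.elim (α := (zeroAlg X).carrier p) _ _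
          map_zero' := rfl
          map_add' := fun _ _ => Subsingleton.elim (α := (zeroAlg X).carrier p) _ _
          commutes' := fun _ => Subsingleton.elim (α := (zeroAlg X).carrier p) _ _ },
        fun {p q} h r => Subsingleton.elim (α := (zeroAlg X).carrier q) _ _⟩)
      fun B f => fet_hom_ext _ _ fun p r => Subsingleton.elim (α := (zeroAlg X).carrier p) _ _).op
    haveI := isEmpty_fib_zeroE ξ
    haveI : PreservesColimit (Functor.empty.{0} (FEt X)ᵒᵖ) (ξ.fibFunctor ⋙ FintypeCat.incl) :=
      preservesColimit_of_preserves_colimit_cocone ht ((isColimitMapCoconeEmptyCoconeEquiv _ _).symm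
        (IsInitial.ofUniqueHom (fun T => TypeCat.ofHom fun x => isEmptyElim (α := ξ.Fib (zeroE X).obj) x)
          fun T m => ConcreteCategory.hom_ext _ _ fun x => isEmptyElim (α := ξ.Fib (zeroE X).obj) x))
    exact preservesColimitsOfShape_pempty_of_preservesInitial _
  haveI : PreservesFiniteCoproducts (ξ.fibFunctor ⋙ FintypeCat.incl) :=
    ⟨fun n => PreservesFiniteCoproducts.of_preserves_binary_and_initial _ (Fin n)⟩
  exact preservesFiniteCoproducts_of_reflects_of_preserves ξ.fibFunctor FintypeCat.incl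

theorem preservesEpis (hX : X.IsFinSp) : ξ.fibFunctor.PreservesEpimorphisms := by
  refine ⟨fun {U V} φ hφ => FintypeCat.incl.epi_of_epi_map ((epi_iff_surjective _).mpr ?_)⟩
  haveI : Mono φ.unop := inferInstance
  change Function.Surjective (ξ.fibMap φ.unop.hom)
  exact (fibMap_surjective_iff ξ φ.unop).mpr
    (ptMap_surjective_of_injective ξ φ.unop (injective_of_mono φ.unop hX ξ.base))

end Groth.Agent.SchFinH13
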