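import Mathlib

/-!
Invariant subalgebras of finite étale algebras that split after a faithfully flat base change.
-/

universe u

open TensorProduct

namespace Groth.Agent.SchFinH13

set_option backward.isDefEq.respectTransparency false

section

variable {R M : Type u} [CommRing R] [AddCommGroup M] [Module R M]

/-- Flat base change commutes with the intersection of finitely many kernels. -/
lemma mem_range_lTensor_of_forall {ι : Type u} [Finite ι] (N : Submodule R M) (d : ι → (M →ₗ[R] M))
    (hN : ∀ m, m ∈ N ↔ ∀ i, d i m = 0) (S : Type u) [AddCommGroup S] [Module R S] [Module.Flat R S]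
    (t : S ⊗[R] M) (ht : ∀ i, (d i).lTensor S t = 0) :
    t ∈ LinearMap.range (N.subtype.lTensor S) := by
  classical
  cases nonempty_fintype ι
  have hex : Function.Exact N.subtype (LinearMap.pi d) := fun m => by
    rw [funext_iff]
    exact ⟨fun h => ⟨⟨m, (hN m).mpr h⟩, rfl⟩, fun ⟨n, hn⟩ => hn ▸ (hN n.1).mp n.2⟩
  refine ((Module.Flat.lTensor_exact S hex) t).mp ((TensorProduct.piRight R R S fun _ : ι => M).injective ?_)
  rw [map_zero]
  funext i
  have h : ∀ t, TensorProduct.piRight R R S (fun _ : ι => M) ((LinearMap.pi d).lTensor S t) i = (d i).lTensor S t :=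
    fun t => by
    induction t using TensorProduct.induction_on with
    | zero => simp
    | tmul s m => simp
    | add a b ha hb => simp only [map_add, Pi.add_apply, ha, hb]
  rw [h, ht i]
  rfl

end

section

variable {L : Type u} [CommRing L] [IsLocalRing L] {ι : Type u} [Finite ι]

/-- An algebra map from a finite power of a local ring to the ring is a projection. -/
lemma exists_eq_eval (χ : (ι → L) →ₐ[L] L) : ∃ i, ∀ f, χ f = f i := by
  classical
  cases nonempty_fintype ι
  have hsum : ∑ i, χ (Pi.single i 1) = 1 := by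
    rw [← map_sum, show ∑ i, Pi.single i (1 : L) = 1 from Finset.univ_sum_single (1 : ι → L), map_one]
  obtain ⟨i, hi⟩ : ∃ i, IsUnit (χ (Pi.single i 1)) := by
    by_contra h
    push Not at h
    have : (∑ i, χ (Pi.single i 1)) ∈ IsLocalRing.maximalIdeal L := sum_mem fun i _ => h i
    rw [hsum] at this
    exact this isUnit_one
  have hidem : IsIdempotentElem (χ (Pi.single i 1)) := by
    change χ (Pi.single i 1) * χ (Pi.single i 1) = χ (Pi.single i 1)
    rw [← map_mul, ← Pi.single_mul, mul_one]
  have h1 : χ (Pi.single i 1) = 1 := hi.mul_left_cancel (hidem.eq.trans (mul_one _).symm)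
  refine ⟨i, fun f => ?_⟩
  have h2 : f * Pi.single i 1 = f i • (Pi.single i 1 : ι → L) := by
    ext j
    by_cases hj : j = i
    · subst hj; simp
    · simp [Pi.single_eq_of_ne hj]
  calc χ f = χ f * χ (Pi.single i 1) := by rw [h1, mul_one]
    _ = f i := by rw [← map_mul, h2, map_smul, h1, smul_eq_mul, mul_one]

/-- Common fixed vectors of algebra endomorphisms of a power of a local ring form a power of it. -/
lemma flat_unramified_fixed {G : Type u} (σ : G → ((ι → L) →ₐ[L] (ι → L)))
    (I : Subalgebra L (ι → L)) (hI : ∀ f, f ∈ I ↔ ∀ g, σ g f = f) :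
    Module.Flat L I ∧ Algebra.FormallyUnramified L I := by
  choose τ hτ using fun g j => exists_eq_eval ((Pi.evalAlgHom L (fun _ : ι => L) j).comp (σ g))
  let r : ι → ι → Prop := fun i j => ∃ g, i = τ g j
  haveI : Finite (Quot r) := Finite.of_surjective (Quot.mk r) Quot.mk_surjective
  let Φ : (Quot r → L) →ₐ[L] (ι → L) := AlgHom.pi fun i => Pi.evalAlgHom L (fun _ : Quot r => L) (Quot.mk r i)
  have hmem : I = Φ.range := by
    ext f
    rw [hI, AlgHom.mem_range]
    constructor
    · intro h
      refine ⟨Quot.lift f fun i j ⟨g, hg⟩ => ?_, funext fun i => rfl⟩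
      rw [hg, ← hτ g j f]
      exact congrFun (h g) j
    · rintro ⟨v, rfl⟩ g
      funext j
      exact (hτ g j _).trans (congrArg v (Quot.sound ⟨g, rfl⟩))
  let e : (Quot r → L) ≃ₐ[L] I :=
    (AlgEquiv.ofInjective Φ Quot.mk_surjective.injective_comp_right).trans
      (Subalgebra.equivOfEq _ _ hmem.symm)
  exact ⟨Module.Flat.of_linearEquiv e.symm.toLinearEquiv, Algebra.FormallyUnramified.of_equiv e⟩

end

variable {R A : Type u} [CommRing R] [CommRing A] [Algebra R A] {G : Type u} [Finite G]

/-- The common fixed subalgebra of a family of endomorphisms. -/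
def fixedSubalgebra (σ : G → (A →ₐ[R] A)) : Subalgebra R A :=
  ⨅ g, AlgHom.equalizer (σ g) (AlgHom.id R A)

omit [Finite G] in
lemma mem_fixedSubalgebra (σ : G → (A →ₐ[R] A)) (a : A) : a ∈ fixedSubalgebra σ ↔ ∀ g, σ g a = a := by
  simp [fixedSubalgebra, Algebra.mem_iInf]

lemma mem_range_lTensor_fixed (σ : G → (A →ₐ[R] A)) (S : Type u) [AddCommGroup S] [Module R S]
    [Module.Flat R S] (t : S ⊗[R] A) (ht : ∀ g, (σ g).toLinearMap.lTensor S t = t) :
    t ∈ LinearMap.range ((fixedSubalgebra σ).val.toLinearMap.lTensor S) := by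
  refine mem_range_lTensor_of_forall (Subalgebra.toSubmodule (fixedSubalgebra σ))
    (fun g => (σ g).toLinearMap - LinearMap.id) (fun a => ?_) S t fun g => ?_
  · rw [Subalgebra.mem_toSubmodule, mem_fixedSubalgebra]
    exact forall_congr' fun g => sub_eq_zero.symm
  · rw [LinearMap.lTensor_sub, LinearMap.sub_apply, ht g, LinearMap.lTensor_id, LinearMap.id_apply, sub_self]

/-- After a flat base change to a local ring over which the algebra splits, the fixed subalgebra is
flat and unramified. -/
lemma flat_unramified_tensor_fixed (σ : G → (A →ₐ[R] A)) {L : Type u} [CommRing L] [Algebra R L]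
    [IsLocalRing L] [Module.Flat R L] {ι : Type u} [Finite ι] (e : L ⊗[R] A ≃ₐ[L] (ι → L)) :
    Module.Flat L (L ⊗[R] fixedSubalgebra σ) ∧ Algebra.FormallyUnramified L (L ⊗[R] fixedSubalgebra σ) := by
  let ψ : L ⊗[R] fixedSubalgebra σ →ₐ[L] L ⊗[R] A :=
    Algebra.TensorProduct.map (AlgHom.id L L) (fixedSubalgebra σ).val
  have hψ : ∀ t, ψ t = (fixedSubalgebra σ).val.toLinearMap.lTensor L t := fun t => by
    induction t using TensorProduct.induction_on with
    | zero => simp
    | tmul x y => simp [ψ]
    | add a b ha hb => simp only [map_add, ha, hb]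
  let m : G → (L ⊗[R] A →ₐ[L] L ⊗[R] A) := fun g => Algebra.TensorProduct.map (AlgHom.id L L) (σ g)
  have hm : ∀ g t, m g t = (σ g).toLinearMap.lTensor L t := fun g t => by
    induction t using TensorProduct.induction_on with
    | zero => simp
    | tmul x y => simp [m]
    | add a b ha hb => simp only [map_add, ha, hb]
  let Φ : L ⊗[R] fixedSubalgebra σ →ₐ[L] (ι → L) := e.toAlgHom.comp ψ
  have hΦ : Function.Injective Φ := e.injective.comp fun a b h =>
    Module.Flat.lTensor_preserves_injective_linearMap _
      (Subtype.val_injective : Function.Injective (fixedSubalgebra σ).val.toLinearMap)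
      ((hψ a).symm.trans (h.trans (hψ b)))
  let σ' : G → ((ι → L) →ₐ[L] (ι → L)) := fun g => e.toAlgHom.comp ((m g).comp e.symm.toAlgHom)
  have hmem : ∀ f, f ∈ Φ.range ↔ ∀ g, σ' g f = f := by
    intro f
    constructor
    · rintro ⟨t, rfl⟩ g
      change e (m g (e.symm (e (ψ t)))) = e (ψ t)
      rw [e.symm_apply_apply, hm, hψ, ← LinearMap.lTensor_comp_apply]
      congr 2
      exact congrArg (LinearMap.lTensor L) (LinearMap.ext fun a => (mem_fixedSubalgebra σ a.1).mp a.2 g)
    · intro h
      obtain ⟨t, ht⟩ := mem_range_lTensor_fixed σ L (e.symm f) fun g => by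
        rw [← hm]; exact e.injective ((h g).trans (e.apply_symm_apply f).symm)
      exact ⟨t, (congrArg e ((hψ t).trans ht)).trans (e.apply_symm_apply f)⟩
  obtain ⟨h1, h2⟩ := flat_unramified_fixed σ' Φ.range hmem
  let E : (L ⊗[R] fixedSubalgebra σ) ≃ₐ[L] Φ.range := AlgEquiv.ofInjective Φ hΦ
  exact ⟨Module.Flat.of_linearEquiv E.toLinearEquiv, Algebra.FormallyUnramified.of_equiv E.symm⟩

omit [Finite G] in
lemma finite_fixedSubalgebra [IsNoetherianRing R] [Module.Finite R A] (σ : G → (A →ₐ[R] A)) :
    Module.Finite R (fixedSubalgebra σ) :=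
  haveI := isNoetherian_of_isNoetherianRing_of_finite R A
  inferInstanceAs (Module.Finite R (Subalgebra.toSubmodule (fixedSubalgebra σ)))

/-- The fixed subalgebra of a finite algebra that splits after a faithfully flat base change is étale. -/
theorem etale_fixedSubalgebra [IsNoetherianRing R] [Module.Finite R A] (σ : G → (A →ₐ[R] A))
    (T : Type u) [CommRing T] [Algebra R T] [Module.FaithfullyFlat R T] {ι : Type u} [Finite ι]
    (e : T ⊗[R] A ≃ₐ[T] (ι → T)) : Algebra.Etale R (fixedSubalgebra σ) := by
  classical
  cases nonempty_fintype ι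
  set I := fixedSubalgebra σ
  have key : ∀ (Q : Ideal T) [Q.IsPrime],
      Module.Flat (Localization.AtPrime Q) (Localization.AtPrime Q ⊗[R] I) ∧
      Algebra.FormallyUnramified (Localization.AtPrime Q) (Localization.AtPrime Q ⊗[R] I) := by
    intro Q _
    haveI : Module.Flat R (Localization.AtPrime Q) := Module.Flat.trans R T _
    exact flat_unramified_tensor_fixed σ
      ((Algebra.TensorProduct.cancelBaseChange R T (Localization.AtPrime Q) (Localization.AtPrime Q) A).symm.trans
        ((Algebra.TensorProduct.congr AlgEquiv.refl e).trans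
          (Algebra.TensorProduct.piScalarRight T (Localization.AtPrime Q) (Localization.AtPrime Q) ι)))
  haveI : Module.Flat T (T ⊗[R] I) := Module.flat_of_localized_maximal (T ⊗[R] I) fun Q hQ => by
    haveI := (key Q).1
    haveI : Module.Flat T (Localization.AtPrime Q ⊗[R] I) := Module.Flat.trans T (Localization.AtPrime Q) _
    exact Module.Flat.of_linearEquiv ((LocalizedModule.equivTensorProduct Q.primeCompl (T ⊗[R] I)).restrictScalars T ≪≫ₗ
      ((TensorProduct.AlgebraTensorModule.cancelBaseChange R T (Localization.AtPrime Q)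
        (Localization.AtPrime Q) I).restrictScalars T))
  haveI : Module.Flat R I := Module.Flat.of_flat_tensorProduct R I T
  haveI : Algebra.FormallyUnramified R I := by
    constructor
    haveI : Subsingleton (T ⊗[R] Ω[I⁄R]) := by
      rw [← Module.support_eq_empty_iff (R := T), Set.eq_empty_iff_forall_notMem]
      intro Q
      rw [Module.notMem_support_iff]
      haveI := (key Q.asIdeal).2
      let L := Localization.AtPrime Q.asIdeal
      let _ : Algebra I (L ⊗[R] I) := Algebra.TensorProduct.rightAlgebra
      haveI : Subsingleton (L ⊗[R] Ω[I⁄R]) :=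
        (KaehlerDifferential.tensorKaehlerEquivBase R L I (L ⊗[R] I)).subsingleton
      exact ((LocalizedModule.equivTensorProduct Q.asIdeal.primeCompl (T ⊗[R] Ω[I⁄R])).restrictScalars T ≪≫ₗ
        ((TensorProduct.AlgebraTensorModule.cancelBaseChange R T L L Ω[I⁄R]).restrictScalars T)).subsingleton
    exact Module.FaithfullyFlat.lTensor_reflects_triviality R T _
  haveI := finite_fixedSubalgebra σ (R := R)
  haveI : Algebra.FinitePresentation R I := Algebra.FinitePresentation.of_finiteType.mp inferInstance
  exact Algebra.Etale.of_formallyUnramified_of_flat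

end Groth.Agent.SchFinH13
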