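import Mathlib
import Groth.Agent.Lib.SchFinH13.GaloisFun
import Groth.Agent.Lib.SchFinH13.Invariants

/-!
Invariants of finite group actions on étale covers, and their fibres.
-/

universe u

open TensorProduct CategoryTheory CategoryTheory.Limits Opposite

namespace Groth.Agent.SchFinH13

open SchFin

set_option backward.isDefEq.respectTransparency false

variable {X : RSpace.{u}} {G : Type u}

/-- The local triviality hypothesis. -/
abbrev LocTriv (X : RSpace.{u}) : Prop :=
  ∀ A : FEt X, ∃ (B : Alg X) (n : ℕ), B.IsCovering ∧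
    ∀ p : X.pt, Nonempty (TensorProduct (X.ring p) (B.carrier p) (A.obj.carrier p) ≃ₐ[B.carrier p] (Fin n → B.carrier p))

section Inv

variable {A : FEt X} (σ : G → (A ⟶ A))

/-- The maps at a point. -/
def σapp (p : X.pt) (g : G) : A.obj.carrier p →ₐ[X.ring p] A.obj.carrier p := (σ g).hom.app p

lemma res_mem_fixed {p q : X.pt} (h : p ≤ q) (a : A.obj.carrier p)
    (ha : a ∈ fixedSubalgebra (σapp σ p)) : A.obj.res h a ∈ fixedSubalgebra (σapp σ q) := by
  rw [mem_fixedSubalgebra] at ha ⊢
  intro g
  exact ((σ g).hom.compat h a).symm.trans (congrArg (A.obj.res h) (ha g))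

/-- The algebra of pointwise invariants. -/
def invAlg : Alg X where
  carrier p := ↥(fixedSubalgebra (σapp σ p))
  res {p q} h := ((A.obj.res h).comp (fixedSubalgebra (σapp σ p)).val.toRingHom).codRestrict
    (fixedSubalgebra (σapp σ q)) fun a => res_mem_fixed σ h a.1 a.2
  res_algebraMap h r := Subtype.ext (A.obj.res_algebraMap h r)
  res_self p a := Subtype.ext (A.obj.res_self p a.1)
  res_comp h h' a := Subtype.ext (A.obj.res_comp h h' a.1)

/-- The inclusion of the invariants. -/
def invIncl : invAlg σ ⟶ A.obj where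
  app p := (fixedSubalgebra (σapp σ p)).val
  compat _ _ := rfl

variable [Finite G]

lemma isQcoh_invAlg (hX : X.IsFinSp) : (invAlg σ).IsQcoh := by
  refine isQcoh_of_resAlg fun {p q} h => ?_
  let _ := (X.res h).toAlgebra
  haveI : Module.Flat (X.ring p) (X.ring q) := hX.2 p q h
  have hval : ∀ t, (resAlg (invAlg σ) h t).1 =
      resAlg A.obj h ((fixedSubalgebra (σapp σ p)).val.toLinearMap.lTensor (X.ring q) t) := fun t => by
    induction t using TensorProduct.induction_on with
    | zero => simp only [map_zero]; rfl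
    | tmul r a =>
      rw [LinearMap.lTensor_tmul]
      exact (congrArg Subtype.val (resAlg_tmul (invAlg σ) h r a)).trans (resAlg_tmul A.obj h r a.1).symm
    | add a b ha hb =>
      simp only [map_add]
      exact congrArg₂ (· + ·) ha hb
  have hnat : ∀ g t, resAlg A.obj h ((σapp σ p g).toLinearMap.lTensor (X.ring q) t) =
      σapp σ q g (resAlg A.obj h t) := fun g t => by
    induction t using TensorProduct.induction_on with
    | zero => simp only [map_zero]
    | tmul r a =>
      rw [LinearMap.lTensor_tmul, resAlg_tmul, resAlg_tmul, map_smul]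
      exact congrArg (r • ·) ((σ g).hom.compat h a)
    | add u v hu hv => simp only [map_add, hu, hv]
  refine ⟨fun s t hst => ?_, fun v => ?_⟩
  · exact Module.Flat.lTensor_preserves_injective_linearMap _
      (Subtype.val_injective : Function.Injective (fixedSubalgebra (σapp σ p)).val.toLinearMap)
      ((resAlg_bijective A.property.1 h).1 ((hval s).symm.trans ((congrArg Subtype.val hst).trans (hval t))))
  · obtain ⟨t, ht⟩ := (resAlg_bijective A.property.1 h).2 v.1
    obtain ⟨s, hs⟩ := mem_range_lTensor_fixed (σapp σ p) (X.ring q) t fun g =>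
      (resAlg_bijective A.property.1 h).1 (by rw [hnat, ht]; exact (mem_fixedSubalgebra _ _).mp v.2 g)
    exact ⟨s, Subtype.ext ((hval s).trans ((congrArg (resAlg A.obj h) hs).trans ht))⟩

lemma isEtCover_invAlg (hX : X.IsFinSp) (hlt : LocTriv X) : (invAlg σ).IsEtCover := by
  obtain ⟨B, n, hB, he⟩ := hlt A
  refine ⟨isQcoh_invAlg σ hX, fun p => ?_⟩
  haveI := hX.1 p
  haveI := (A.property.2 p).1
  haveI := (hB.2 p).2
  obtain ⟨e⟩ := he p
  exact ⟨finite_fixedSubalgebra (σapp σ p),
    etale_fixedSubalgebra (σapp σ p) (B.carrier p) (ι := ULift.{u} (Fin n))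
      (e.trans (AlgEquiv.piCongrLeft' (B.carrier p) (fun _ : Fin n => B.carrier p) Equiv.ulift.symm))⟩

variable (hX : X.IsFinSp) (hlt : LocTriv X)

/-- The invariants as an étale cover. -/
def invE : FEt X := ⟨invAlg σ, isEtCover_invAlg σ hX hlt⟩

/-- The inclusion of the invariants. -/
def invι : invE σ hX hlt ⟶ A := ObjectProperty.homMk (invIncl σ)

lemma invι_comp (g : G) : invι σ hX hlt ≫ σ g = invι σ hX hlt :=
  fet_hom_ext _ _ fun p a => (mem_fixedSubalgebra _ _).mp a.2 g

/-- An invariant morphism lands in the invariants. -/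
def invLift {T : FEt X} (f : T ⟶ A) (hf : ∀ g, f ≫ σ g = f) : T ⟶ invE σ hX hlt :=
  ObjectProperty.homMk ⟨fun p => (f.hom.app p).codRestrict _ fun t => (mem_fixedSubalgebra _ _).mpr fun g =>
      AlgHom.congr_fun (congrArg (fun z : T ⟶ A => z.hom.app p) (hf g)) t,
    fun {p q} h t => Subtype.ext (f.hom.compat h t)⟩

lemma invLift_ι {T : FEt X} (f : T ⟶ A) (hf : ∀ g, f ≫ σ g = f) :
    invLift σ hX hlt f hf ≫ invι σ hX hlt = f :=
  fet_hom_ext _ _ fun _ _ => rfl

lemma inv_hom_ext {T : FEt X} (u v : T ⟶ invE σ hX hlt) (h : u ≫ invι σ hX hlt = v ≫ invι σ hX hlt) :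
    u = v :=
  fet_hom_ext _ _ fun p t => Subtype.ext (AlgHom.congr_fun (congrArg (fun z : T ⟶ A => z.hom.app p) h) t)

end Inv

/-! ### Orbits of points -/

section Orbit

variable {R A : Type u} [CommRing R] [CommRing A] [Algebra R A] [Module.Finite R A]
  {Ω : Type u} [CommRing Ω] [IsDomain Ω] [Algebra R Ω]

open Polynomial in
/-- Points which agree on the invariants are conjugate. -/
theorem exists_comp_eq_of_eqOn_fixed [Finite G] [Group G] (σ : G → (A →ₐ[R] A))
    (h1 : σ 1 = AlgHom.id R A) (hmul : ∀ g h, σ (h * g) = (σ h).comp (σ g)) (φ ψ : A →ₐ[R] Ω)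
    (heq : ∀ a, (∀ g, σ g a = a) → φ a = ψ a) : ∃ g, ψ = φ.comp (σ g) := by
  cases nonempty_fintype G
  obtain ⟨n, a, ha⟩ := Module.Finite.exists_fin (R := R) (M := A)
  let c : A[X] := ∑ i, monomial i.1 (a i)
  let P : A[X][X] := ∏ g : G, (Polynomial.X - C (c.map (σ g : A →+* A)))
  have hP : ∀ h, P.map (mapRingHom (σ h : A →+* A)) = P := fun h => by
    rw [Polynomial.map_prod]
    refine Fintype.prod_equiv (Equiv.mulLeft h) _ _ fun g => ?_
    rw [Polynomial.map_sub, Polynomial.map_X, Polynomial.map_C, coe_mapRingHom, Polynomial.map_map,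
      Equiv.coe_mulLeft, hmul]
    rfl
  have hmap : P.map (mapRingHom (φ : A →+* Ω)) = P.map (mapRingHom (ψ : A →+* Ω)) := by
    ext k j
    rw [coeff_map, coeff_map, coe_mapRingHom, coe_mapRingHom, coeff_map, coeff_map]
    refine heq _ fun h => ?_
    have := congrArg (fun z : A[X][X] => (z.coeff k).coeff j) (hP h)
    simpa only [coeff_map, coe_mapRingHom, RingHom.coe_coe] using this
  have h0 : (P.map (mapRingHom (φ : A →+* Ω))).eval (c.map (ψ : A →+* Ω)) = 0 := by
    rw [hmap, Polynomial.map_prod, eval_prod]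
    refine Finset.prod_eq_zero (Finset.mem_univ (1 : G)) ?_
    rw [h1]
    simp [Polynomial.map_id]
  rw [Polynomial.map_prod, eval_prod, Finset.prod_eq_zero_iff] at h0
  obtain ⟨g, -, hg⟩ := h0
  rw [Polynomial.map_sub, Polynomial.map_X, Polynomial.map_C, eval_sub, eval_X, eval_C, coe_mapRingHom,
    Polynomial.map_map, sub_eq_zero] at hg
  have hai : ∀ i, ψ (a i) = φ (σ g (a i)) := fun i => by
    have hc : c.coeff i.1 = a i := by
      rw [finsetSum_coeff, Finset.sum_eq_single i]
      · rw [coeff_monomial, if_pos rfl]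
      · intro j _ hji
        rw [coeff_monomial, if_neg fun h => hji (Fin.ext h)]
      · simp
    have := congrArg (fun z : Polynomial Ω => z.coeff i.1) hg
    simpa only [coeff_map, hc, RingHom.comp_apply, RingHom.coe_coe] using this
  refine ⟨g, AlgHom.toLinearMap_injective (LinearMap.ext_on_range ha fun i => hai i)⟩

end Orbit

/-! ### Quotients -/

section Quot

variable [Group G] [Finite G] (hX : X.IsFinSp) (hlt : LocTriv X)

theorem hasLimitsOfShape_singleObj (hX : X.IsFinSp) (hlt : LocTriv X) :
    HasLimitsOfShape (SingleObj G) (FEt X) := by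
  refine ⟨fun F => ?_⟩
  let A : FEt X := F.obj (SingleObj.star G)
  let σ : G → (A ⟶ A) := fun g => F.map (X := SingleObj.star G) (Y := SingleObj.star G) g
  let c : Cone F :=
    { pt := invE σ hX hlt
      π := { app := fun _ => invι σ hX hlt
             naturality := fun _ _ g => (Category.id_comp _).trans (invι_comp σ hX hlt g).symm } }
  exact HasLimit.mk ⟨c,
    { lift := fun s => invLift σ hX hlt (s.π.app (SingleObj.star G)) fun g =>
        s.w (j := SingleObj.star G) (j' := SingleObj.star G) g
      fac := fun s _ => invLift_ι σ hX hlt _ _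
      uniq := fun s m hm => inv_hom_ext σ hX hlt _ _
        ((hm (SingleObj.star G)).trans (invLift_ι σ hX hlt _ _).symm) }⟩

variable (K : SingleObj G ⥤ (FEt X)ᵒᵖ)

/-- The action on the algebra underlying a diagram over the one-object category. -/
def actσ (g : G) : (K.obj (SingleObj.star G)).unop ⟶ (K.obj (SingleObj.star G)).unop :=
  (K.map (X := SingleObj.star G) (Y := SingleObj.star G) g).unop

/-- The quotient cocone: invariants, in the opposite category. -/
def quotCocone : Cocone K where
  pt := op (invE (actσ K) hX hlt)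
  ι :=
    { app := fun _ => (invι (actσ K) hX hlt).op
      naturality := fun _ _ g => by
        refine Quiver.Hom.unop_inj ?_
        exact (invι_comp (actσ K) hX hlt g).trans (Category.id_comp _).symm }

omit [Finite G] in
lemma cocone_inv (s : Cocone K) (g : G) :
    (s.ι.app (SingleObj.star G)).unop ≫ actσ K g = (s.ι.app (SingleObj.star G)).unop :=
  congrArg Quiver.Hom.unop (s.w (j := SingleObj.star G) (j' := SingleObj.star G) g)

/-- The quotient cocone is a colimit. -/
def quotCoconeIsColimit : IsColimit (quotCocone hX hlt K) where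
  desc s := (invLift (actσ K) hX hlt (s.ι.app (SingleObj.star G)).unop (cocone_inv K s)).op
  fac s _ := Quiver.Hom.unop_inj (invLift_ι (actσ K) hX hlt _ (cocone_inv K s))
  uniq s m hm := Quiver.Hom.unop_inj (inv_hom_ext (actσ K) hX hlt _ _
    ((congrArg Quiver.Hom.unop (hm (SingleObj.star G))).trans (invLift_ι (actσ K) hX hlt _ (cocone_inv K s)).symm))

variable {Ω : Type u} [Field Ω] [IsAlgClosed Ω] (ξ : GeomPt X Ω)

lemma surjective_fib_invι :
    Function.Surjective (ξ.fibMap (invι (actσ K) hX hlt).hom) :=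
  (fibMap_surjective_iff ξ _).mpr (ptMap_surjective_of_injective ξ _ Subtype.val_injective)

lemma exists_orbit (x y : ξ.Fib (K.obj (SingleObj.star G)).unop.obj)
    (h : ξ.fibMap (invι (actσ K) hX hlt).hom x = ξ.fibMap (invι (actσ K) hX hlt).hom y) :
    ∃ g : G, ξ.fibMap (actσ K g).hom x = y := by
  let _ : Algebra (X.ring ξ.base) Ω := ξ.toField.toAlgebra
  let A := (K.obj (SingleObj.star G)).unop
  haveI := pt_finite ξ A
  obtain ⟨φ, rfl⟩ := (toFib_bij ξ A).2 x
  obtain ⟨ψ, rfl⟩ := (toFib_bij ξ A).2 y
  have he : ptMap ξ (invι (actσ K) hX hlt).hom φ = ptMap ξ (invι (actσ K) hX hlt).hom ψ :=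
    (toFib_bij ξ (invE (actσ K) hX hlt)).1
      (((toFib_natural ξ _ φ).symm.trans h).trans (toFib_natural ξ _ ψ))
  have h1 : σapp (actσ K) ξ.base 1 = AlgHom.id _ _ := by
    change ((K.map (𝟙 (SingleObj.star G))).unop).hom.app ξ.base = _
    rw [K.map_id]
    rfl
  have hmul : ∀ g h : G, σapp (actσ K) ξ.base (g * h) =
      (σapp (actσ K) ξ.base h).comp (σapp (actσ K) ξ.base g) := fun g h => by
    change ((K.map ((show SingleObj.star G ⟶ SingleObj.star G from h) ≫ g)).unop).hom.app ξ.base = _
    rw [K.map_comp]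
    rfl
  obtain ⟨g, hg⟩ := exists_comp_eq_of_eqOn_fixed (R := X.ring ξ.base) (fun g : G => σapp (actσ K) ξ.base g⁻¹)
    (by simp only [inv_one, h1])
    (fun g h => by rw [mul_inv_rev]; exact hmul g⁻¹ h⁻¹)
    φ ψ fun a ha => AlgHom.congr_fun he ⟨a, (mem_fixedSubalgebra _ _).mpr fun g => by
      simpa using ha g⁻¹⟩
  exact ⟨g⁻¹, (toFib_natural ξ _ φ).trans (congrArg _ hg.symm)⟩

theorem preservesQuotients (hX : X.IsFinSp) (hlt : LocTriv X) :
    PreservesColimitsOfShape (SingleObj G) ξ.fibFunctor := by
  haveI : PreservesColimitsOfShape (SingleObj G) (ξ.fibFunctor ⋙ FintypeCat.incl) := by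
    refine ⟨fun {K} => preservesColimit_of_preserves_colimit_cocone (quotCoconeIsColimit hX hlt K) ?_⟩
    have hs := surjective_fib_invι hX hlt K ξ
    have key : ∀ (s : Cocone (K ⋙ ξ.fibFunctor ⋙ FintypeCat.incl))
        (x y : ξ.Fib (K.obj (SingleObj.star G)).unop.obj),
        ξ.fibMap (invι (actσ K) hX hlt).hom x = ξ.fibMap (invι (actσ K) hX hlt).hom y →
        s.ι.app (SingleObj.star G) x = s.ι.app (SingleObj.star G) y := by
      intro s x y h
      obtain ⟨g, rfl⟩ := exists_orbit hX hlt K ξ x y h
      exact (ConcreteCategory.congr_hom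
        (s.w (j := SingleObj.star G) (j' := SingleObj.star G) g) x).symm
    exact
      { desc := fun s => TypeCat.ofHom fun z => s.ι.app (SingleObj.star G) (hs z).choose
        fac := fun s _ => ConcreteCategory.hom_ext _ _ fun x => key s _ x (hs _).choose_spec
        uniq := fun s m hm => ConcreteCategory.hom_ext _ _ fun z => by
          obtain ⟨x, rfl⟩ := hs z
          exact (ConcreteCategory.congr_hom (hm (SingleObj.star G)) x).trans
            (key s x _ (hs _).choose_spec.symm) }
  exact preservesColimitsOfShape_of_reflects_of_preserves ξ.fibFunctor FintypeCat.incl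

end Quot

end Groth.Agent.SchFinH13
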